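/-
Operator groups with scalar commutators on a vector space over a finite field.
-/
import Mathlib

set_option autoImplicit false

namespace Cfsg.Agent.Lib.BaseSize.Pauli

universe u v

/-- Additive automorphisms, as a group under composition. -/
abbrev Aut (V : Type v) [AddCommGroup V] := V ≃ₗ[ℤ] V

instance instFiniteAut (V : Type v) [AddCommGroup V] [Finite V] : Finite (Aut V) :=
  Finite.of_injective (fun e => (e : V → V)) DFunLike.coe_injective

variable {K : Type u} [Field K] {V : Type v} [AddCommGroup V] [Module K V]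

/-- The scalars. -/
def scal : Kˣ →* Aut V where
  toFun c :=
    { toFun := fun v => (c : K) • v
      invFun := fun v => ((c⁻¹ : Kˣ) : K) • v
      map_add' := smul_add _
      map_smul' := fun n v => smul_comm _ n v
      left_inv := fun v => by simp [smul_smul]
      right_inv := fun v => by simp [smul_smul] }
  map_one' := LinearEquiv.ext fun v => one_smul K v
  map_mul' a b := LinearEquiv.ext fun v => mul_smul (a : K) b v

theorem scal_apply (c : Kˣ) (v : V) : (scal c : Aut V) v = (c : K) • v := rfl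

theorem scal_fix {c : Kˣ} {v : V} (hv : v ≠ 0) (h : (scal c : Aut V) v = v) : c = 1 := by
  refine Units.ext ?_
  have : ((c : K) - 1) • v = 0 := by rw [sub_smul, one_smul, ← scal_apply, h, sub_self]
  exact sub_eq_zero.mp ((smul_eq_zero.mp this).resolve_right hv)

theorem scal_injective [Nontrivial V] : Function.Injective (scal (K := K) (V := V)) := by
  intro a b h
  obtain ⟨v, hv⟩ := exists_ne (0 : V)
  refine mul_inv_eq_one.mp (scal_fix (V := V) hv ?_)
  rw [map_mul, map_inv, h, mul_inv_cancel]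
  rfl

theorem aut_fix_inv {g : Aut V} {v : V} (h : g v = v) : g⁻¹ v = v := by
  conv_lhs => rw [← h]
  exact g.symm_apply_apply v

theorem aut_fix_pow {g : Aut V} {v : V} (h : g v = v) (n : ℕ) : (g ^ n) v = v := by
  induction n with
  | zero => rfl
  | succ n ih => rw [pow_succ', LinearEquiv.mul_apply, ih, h]

variable (K V)

/-- A group of linear maps containing the scalars, with scalar commutators, only the scalars central
and squarefree exponent modulo the scalars. -/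
structure Heis where
  B : Subgroup (Aut V)
  scal_mem : ∀ c : Kˣ, scal c ∈ B
  lin : ∀ x ∈ B, ∀ (c : K) (v : V), x (c • v) = c • x v
  comm : ∀ x ∈ B, ∀ y ∈ B, ∃ c : Kˣ, x * y = scal c * (y * x)
  centre : ∀ x ∈ B, (∀ y ∈ B, x * y = y * x) → ∃ c : Kˣ, x = scal c
  N : ℕ
  sqf : Squarefree N
  powN : ∀ x ∈ B, ∃ c : Kˣ, x ^ N = scal c

variable {K V}

namespace Heis

variable (H : Heis K V)

theorem scal_comm {x : Aut V} (hx : x ∈ H.B) (c : Kˣ) : x * scal c = scal c * x :=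
  LinearEquiv.ext fun v => H.lin x hx c v

theorem mul_scal {x y : Aut V} (hx : x ∈ H.B) (c : Kˣ) : x * (scal c * y) = scal c * (x * y) := by
  rw [← mul_assoc, H.scal_comm hx, mul_assoc]

theorem comm_pow {x y : Aut V} {c : Kˣ} (hx : x ∈ H.B)
    (h : x * y = scal c * (y * x)) (n : ℕ) : x ^ n * y = scal (c ^ n) * (y * x ^ n) := by
  induction n with
  | zero => simp
  | succ n ih =>
    rw [pow_succ' x, mul_assoc, ih, H.mul_scal hx, ← mul_assoc x y, h, pow_succ, map_mul]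
    simp only [mul_assoc]

theorem comm_symm {x y : Aut V} {c : Kˣ} (h : x * y = scal c * (y * x)) :
    y * x = scal c⁻¹ * (x * y) := by
  rw [h, ← mul_assoc, ← map_mul, inv_mul_cancel, map_one, one_mul]

theorem comm_pow_eq_one [Nontrivial V] {x y : Aut V} {c d : Kˣ} (hx : x ∈ H.B) (hy : y ∈ H.B)
    (h : x * y = scal c * (y * x)) {n : ℕ} (hn : x ^ n = scal d) : c ^ n = 1 := by
  have h1 := H.comm_pow hx h n
  rw [hn, H.scal_comm hy] at h1
  refine scal_injective (V := V) ?_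
  rw [map_one]
  exact (mul_eq_right (b := scal d * y)).mp h1.symm

theorem mul_comm_left {x x' y : Aut V} {c c' : Kˣ} (hx : x ∈ H.B)
    (h : x * y = scal c * (y * x)) (h' : x' * y = scal c' * (y * x')) :
    (x * x') * y = scal (c' * c) * (y * (x * x')) := by
  rw [mul_assoc, h', H.mul_scal hx, ← mul_assoc x y, h, map_mul]
  simp only [mul_assoc]

theorem pow_comm {x y : Aut V} {c : Kˣ} (hy : y ∈ H.B) (h : x * y = scal c * (y * x)) (n : ℕ) :
    x * y ^ n = scal (c ^ n) * (y ^ n * x) := by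
  have := comm_symm (H.comm_pow hy (comm_symm h) n)
  simpa using this

/-- A nontrivial element of prime order fixing a nonzero vector has a partner. -/
theorem exists_partner [Finite K] [Nontrivial V] {l : Aut V} (hl : l ∈ H.B) {v : V} (hv : v ≠ 0)
    (hlv : l v = v) {r : ℕ} (hr : r.Prime) (hlr : l ^ r = 1) (hl1 : l ≠ 1) :
    ∃ (y : Aut V) (ζ m : Kˣ), y ∈ H.B ∧ orderOf ζ = r ∧ l * y = scal ζ * (y * l) ∧
      y ^ r = scal m := by
  obtain ⟨y₀, hy₀, hne⟩ : ∃ y ∈ H.B, l * y ≠ y * l := by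
    by_contra h
    push Not at h
    obtain ⟨c, hc⟩ := H.centre l hl h
    refine hl1 ?_
    rw [hc, scal_fix (K := K) (c := c) hv (hc ▸ hlv), map_one]
  obtain ⟨c, hc⟩ := H.comm l hl y₀ hy₀
  have hcr : c ^ r = 1 := H.comm_pow_eq_one hl hy₀ hc (d := 1) (by rw [hlr, map_one])
  have hc1 : c ≠ 1 := fun h => hne (by rw [hc, h, map_one, one_mul])
  have hord : orderOf c = r := @orderOf_eq_prime _ _ c r ⟨hr⟩ hcr hc1
  obtain ⟨d, hd⟩ := H.powN y₀ hy₀
  have hcN : c ^ H.N = 1 := by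
    have := H.comm_pow_eq_one hy₀ hl (comm_symm hc) hd
    simpa using this
  have hrN : r ∣ H.N := hord ▸ orderOf_dvd_of_pow_eq_one hcN
  obtain ⟨s, hs⟩ := hrN
  have hrs : ¬ r ∣ s := fun h => hr.not_isUnit (H.sqf r (by rw [hs]; exact Nat.mul_dvd_mul_left r h))
  refine ⟨y₀ ^ s, c ^ s, d, pow_mem hy₀ s, ?_, H.pow_comm hy₀ hc s, ?_⟩
  · rw [Nat.Coprime.orderOf_pow (by rw [hord]; exact hr.coprime_iff_not_dvd.mpr hrs), hord]
  · rw [← pow_mul, mul_comm, ← hs, hd]

/-- An element fixing a nonzero vector and moving something has a power of prime order. -/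
theorem exists_prime_fix [Finite V] {x : Aut V} (hx : x ∈ H.B) (hx1 : x ≠ 1) {v : V} (hxv : x v = v) :
    ∃ (l : Aut V) (r : ℕ), r.Prime ∧ l ∈ H.B ∧ l ^ r = 1 ∧ l ≠ 1 ∧ l v = v := by
  have ho : orderOf x ≠ 1 := fun h => hx1 (orderOf_eq_one_iff.mp h)
  obtain ⟨r, hr, hro⟩ := Nat.exists_prime_and_dvd ho
  refine ⟨x ^ (orderOf x / r), r, hr, pow_mem hx _, ?_, fun h => ?_, aut_fix_pow hxv _⟩
  · rw [← pow_mul, Nat.div_mul_cancel hro, pow_orderOf_eq_one]
  · have h1 := Nat.le_of_dvd (Nat.div_pos (Nat.le_of_dvd (orderOf_pos x) hro) hr.pos)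
      (orderOf_dvd_of_pow_eq_one h)
    exact absurd h1 (not_le.mpr (Nat.div_lt_self (orderOf_pos x) hr.one_lt))

/-- An element fixing a nonzero vector and commuting with all is trivial. -/
theorem eq_one_of_fix_comm [Nontrivial V] {x : Aut V} (hx : x ∈ H.B) {v : V} (hv : v ≠ 0)
    (hxv : x v = v) (hc : ∀ y ∈ H.B, x * y = y * x) : x = 1 := by
  obtain ⟨c, hc⟩ := H.centre x hx hc
  rw [hc, scal_fix (K := K) (c := c) hv (hc ▸ hxv), map_one]

/-- An element fixing the orbit of a vector is trivial. -/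
theorem eq_one_of_fix_orbit [Nontrivial V] {x : Aut V} (hx : x ∈ H.B) {v : V} (hv : v ≠ 0)
    (h : ∀ y ∈ H.B, x (y v) = y v) : x = 1 := by
  have hxv : x v = v := h 1 (one_mem _)
  refine H.eq_one_of_fix_comm hx hv hxv fun y hy => ?_
  obtain ⟨c, hc⟩ := H.comm x hx y hy
  have h1 : (x * y) v = (scal c * (y * x) : Aut V) v := by rw [hc]
  simp only [LinearEquiv.mul_apply, h y hy, hxv] at h1
  have hyv : y v ≠ 0 := fun e => hv (y.injective (e.trans (map_zero y).symm))
  rw [hc, scal_fix (K := K) hyv h1.symm, map_one, one_mul]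

/-- Groups of automorphisms normalising the group, of order prime to `p`. -/
structure Acts (p : ℕ) (Γ : Subgroup (Aut V)) : Prop where
  reg : ¬ p ∣ Nat.card Γ
  norm : ∀ γ ∈ Γ, ∀ x ∈ H.B, γ * x * γ⁻¹ ∈ H.B

/-- Elements fixing both vectors centralise the group. -/
def Pins (Γ : Subgroup (Aut V)) (u₁ u₂ : V) : Prop :=
  ∀ γ ∈ Γ, γ u₁ = u₁ → γ u₂ = u₂ → ∀ x ∈ H.B, γ * x = x * γ

/-- A pinning pair with a first vector fixed only trivially. -/
def Semi (Γ : Subgroup (Aut V)) (u₁ u₂ : V) : Prop :=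
  (u₁ ≠ 0 ∧ ∀ b ∈ H.B, b u₁ = u₁ → b = 1) ∧ H.Pins Γ u₁ u₂

/-- Furthermore the second vector is outside the orbit of the first. -/
def Good (Γ : Subgroup (Aut V)) (u₁ u₂ : V) : Prop :=
  H.Semi Γ u₁ u₂ ∧ u₂ ≠ 0 ∧ ∀ b ∈ H.B, b u₁ ≠ u₂

/-- Conjugation preserves the scalars. -/
theorem conj_scal [Finite V] [Nontrivial V] {γ : Aut V} (hn : ∀ x ∈ H.B, γ * x * γ⁻¹ ∈ H.B)
    (c : Kˣ) : ∃ c' : Kˣ, γ * scal c * γ⁻¹ = scal c' := by
  refine H.centre _ (hn _ (H.scal_mem c)) fun y hy => ?_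
  have hback : γ⁻¹ * y * γ ∈ H.B := by
    have hsurj : Function.Surjective (fun x : H.B => (⟨γ * x * γ⁻¹, hn x x.2⟩ : H.B)) :=
      Finite.surjective_of_injective fun a b h => Subtype.ext (by simpa using congrArg Subtype.val h)
    obtain ⟨x, hx⟩ := hsurj ⟨y, hy⟩
    have h' : γ * x * γ⁻¹ = y := congrArg Subtype.val hx
    rw [← h', show γ⁻¹ * (γ * (x : Aut V) * γ⁻¹) * γ = x by group]
    exact x.2
  have h := H.scal_comm hback c
  calc γ * scal c * γ⁻¹ * y = γ * (scal c * (γ⁻¹ * y * γ)) * γ⁻¹ := by group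
    _ = γ * ((γ⁻¹ * y * γ) * scal c) * γ⁻¹ := by rw [h]
    _ = y * (γ * scal c * γ⁻¹) := by group

theorem Pins.symm {H : Heis K V} {Γ : Subgroup (Aut V)} {u₁ u₂ : V} (h : H.Pins Γ u₁ u₂) :
    H.Pins Γ u₂ u₁ :=
  fun γ hγ h1 h2 => h γ hγ h2 h1

theorem Semi.ne_zero {H : Heis K V} {Γ : Subgroup (Aut V)} {u₁ u₂ : V} (h : H.Semi Γ u₁ u₂) :
    u₁ ≠ 0 :=
  h.1.1

end Heis

end Cfsg.Agent.Lib.BaseSize.Pauli
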