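/-
Splitting a space along an element of prime order with a fixed vector.
-/
import Cfsg.Agent.Lib.BaseSize.Pauli.Basic

set_option autoImplicit false
set_option linter.unusedSectionVars false

open Finset

namespace Cfsg.Agent.Lib.BaseSize.Pauli

universe u v

variable {K : Type u} [Field K] {V : Type v} [AddCommGroup V] [Module K V]

/-- The data of a splitting. -/
structure Split (H : Heis K V) where
  l : Aut V
  y : Aut V
  r : ℕ
  ζ : Kˣ
  m : Kˣ
  v : V
  hr : r.Prime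
  hl : l ∈ H.B
  hy : y ∈ H.B
  hlr : l ^ r = 1
  hym : y ^ r = scal m
  hζ : orderOf ζ = r
  hly : l * y = scal ζ * (y * l)
  hv : v ≠ 0
  hlv : l v = v

/-- A splitting exists as soon as some element fixes a nonzero vector. -/
theorem Heis.exists_split [Finite K] [Finite V] (H : Heis K V) {x : Aut V} (hx : x ∈ H.B) (hx1 : x ≠ 1)
    {v : V} (hv : v ≠ 0) (hxv : x v = v) : Nonempty (Split H) := by
  haveI : Nontrivial V := ⟨v, 0, hv⟩
  obtain ⟨l, r, hr, hl, hlr, hl1, hlv⟩ := H.exists_prime_fix hx hx1 hxv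
  obtain ⟨y, ζ, m, hy, hζ, hly, hym⟩ := H.exists_partner hl hv hlv hr hlr hl1
  exact ⟨⟨l, y, r, ζ, m, v, hr, hl, hy, hlr, hym, hζ, hly, hv, hlv⟩⟩

namespace Split

variable {H : Heis K V} (S : Split H)

/-- The eigenspaces of `l`. -/
def wt (j : ℕ) : Submodule K V where
  carrier := {u | S.l u = ((S.ζ : K) ^ j) • u}
  add_mem' := fun {a b} ha hb => by
    show S.l (a + b) = _ • (a + b)
    rw [map_add, ha, hb, smul_add]
  zero_mem' := by simp
  smul_mem' := fun c a ha => by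
    show S.l (c • a) = _ • (c • a)
    rw [H.lin S.l S.hl, ha, smul_comm]

/-- The fixed space. -/
abbrev W : Submodule K V := S.wt 0

theorem mem_W {u : V} : u ∈ S.W ↔ S.l u = u := by
  show S.l u = _ • u ↔ _
  rw [pow_zero, one_smul]

theorem mem_wt {j : ℕ} {u : V} : u ∈ S.wt j ↔ S.l u = ((S.ζ : K) ^ j) • u := Iff.rfl

theorem v_mem : S.v ∈ S.W := S.mem_W.mpr S.hlv

theorem prim : IsPrimitiveRoot (S.ζ : K) S.r := by
  rw [IsPrimitiveRoot.coe_units_iff, ← S.hζ]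
  exact IsPrimitiveRoot.orderOf S.ζ

theorem r_ne_zero : (S.r : K) ≠ 0 := by
  haveI : NeZero S.r := ⟨S.hr.ne_zero⟩
  exact (S.prim.neZero').out

theorem wt_congr {i j : ℕ} (h : i % S.r = j % S.r) : S.wt i = S.wt j := by
  have : (S.ζ : K) ^ i = (S.ζ : K) ^ j := by
    rw [pow_eq_pow_mod i S.prim.pow_eq_one, pow_eq_pow_mod j S.prim.pow_eq_one, h]
  ext u
  rw [mem_wt, mem_wt, this]

theorem y_mem_wt {i : ℕ} {u : V} (hu : u ∈ S.wt i) (j : ℕ) : (S.y ^ j) u ∈ S.wt (i + j) := by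
  rw [mem_wt]
  have h := LinearEquiv.congr_fun (H.pow_comm S.hy S.hly j) u
  simp only [LinearEquiv.mul_apply, scal_apply, Units.val_pow_eq_pow_val] at h
  rw [h, S.mem_wt.mp hu, H.lin _ (pow_mem S.hy j), smul_smul, ← pow_add, add_comm]

theorem pow_l_apply {j : ℕ} {u : V} (hu : u ∈ S.wt j) (i : ℕ) :
    (S.l ^ i) u = (((S.ζ : K) ^ j) ^ i) • u := by
  induction i with
  | zero => simp
  | succ i ih =>
    rw [pow_succ', LinearEquiv.mul_apply, ih, H.lin S.l S.hl, S.mem_wt.mp hu, smul_smul, ← pow_succ]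

/-- The projections to the eigenspaces. -/
def proj (j : ℕ) (u : V) : V :=
  (S.r : K)⁻¹ • ∑ i ∈ range S.r, (((S.ζ : K) ^ j)⁻¹) ^ i • (S.l ^ i) u

theorem proj_mem (j : ℕ) (u : V) : S.proj j u ∈ S.wt j := by
  rw [mem_wt, proj, H.lin S.l S.hl, map_sum, smul_comm ((S.ζ : K) ^ j)]
  congr 1
  rw [smul_sum]
  set a := (S.ζ : K) ^ j with ha
  have ha0 : a ≠ 0 := pow_ne_zero _ S.ζ.ne_zero
  have har : a⁻¹ ^ S.r = 1 := by
    rw [inv_pow, ha, ← pow_mul, mul_comm, pow_mul, S.prim.pow_eq_one, one_pow, inv_one]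
  have hterm : ∀ i, S.l ((a⁻¹) ^ i • (S.l ^ i) u) = a • ((a⁻¹) ^ (i + 1) • (S.l ^ (i + 1)) u) := by
    intro i
    rw [H.lin S.l S.hl, ← LinearEquiv.mul_apply, ← pow_succ', smul_smul, pow_succ' a⁻¹, ← mul_assoc,
      mul_inv_cancel₀ ha0, one_mul]
  simp only [hterm, ← smul_sum]
  congr 1
  have h1 := sum_range_succ' (fun i => (a⁻¹) ^ i • (S.l ^ i) u) S.r
  have h2 := sum_range_succ (fun i => (a⁻¹) ^ i • (S.l ^ i) u) S.r
  rw [har, S.hlr, h1, pow_zero, pow_zero] at h2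
  exact add_right_cancel h2

theorem proj_of_mem {j k : ℕ} (hj : j < S.r) (hk : k < S.r) {u : V} (hu : u ∈ S.wt k) :
    S.proj j u = if j = k then u else 0 := by
  rw [proj]
  simp only [S.pow_l_apply hu, smul_smul, ← mul_pow, ← sum_smul]
  have hne : ∀ n, (S.ζ : K) ^ n ≠ 0 := fun n => pow_ne_zero _ S.ζ.ne_zero
  split_ifs with h
  · subst h
    simp [inv_mul_cancel₀ (hne j), inv_mul_cancel₀ S.r_ne_zero]
  · rw [show ∑ i ∈ range S.r, (((S.ζ : K) ^ j)⁻¹ * (S.ζ : K) ^ k) ^ i = 0 from ?_, mul_zero, zero_smul]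
    have hx : ((S.ζ : K) ^ j)⁻¹ * (S.ζ : K) ^ k ≠ 1 := by
      intro e
      rw [inv_mul_eq_one₀ (hne j)] at e
      exact h (S.prim.pow_inj hj hk e)
    rw [geom_sum_eq hx, mul_pow, inv_pow, ← pow_mul, ← pow_mul, mul_comm j, mul_comm k, pow_mul,
      pow_mul, S.prim.pow_eq_one, one_pow, one_pow, inv_one, one_mul, sub_self, zero_div]

theorem sum_proj (u : V) : ∑ j ∈ range S.r, S.proj j u = u := by
  simp only [proj, ← smul_sum]
  rw [sum_comm]
  have : ∀ i ∈ range S.r, (∑ j ∈ range S.r, (((S.ζ : K) ^ j)⁻¹) ^ i • (S.l ^ i) u) =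
      if i = 0 then (S.r : K) • u else 0 := by
    intro i hi
    rw [← sum_smul]
    split_ifs with h
    · subst h; simp
    · have h0 : ∑ j ∈ range S.r, (((S.ζ : K) ^ j)⁻¹) ^ i = 0 := by
        have heq : ∀ j, (((S.ζ : K) ^ j)⁻¹) ^ i = (((S.ζ : K) ^ i)⁻¹) ^ j := fun j => by
          rw [inv_pow, inv_pow, ← pow_mul, ← pow_mul, mul_comm]
        simp only [heq]
        have hx : ((S.ζ : K) ^ i)⁻¹ ≠ 1 := by
          rw [Ne, inv_eq_one]
          exact S.prim.pow_ne_one_of_pos_of_lt h (mem_range.mp hi)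
        rw [geom_sum_eq hx, inv_pow, ← pow_mul, mul_comm, pow_mul, S.prim.pow_eq_one, one_pow,
          inv_one, sub_self, zero_div]
      rw [h0, zero_smul]
  rw [sum_congr rfl this, sum_ite_eq', if_pos (mem_range.mpr S.hr.pos), smul_smul,
    inv_mul_cancel₀ S.r_ne_zero, one_smul]

/-- The eigenspaces are independent. -/
theorem indep {u : ℕ → V} (hu : ∀ j < S.r, u j ∈ S.wt j) (h : ∑ j ∈ range S.r, u j = 0) {j : ℕ}
    (hj : j < S.r) : u j = 0 := by
  have hadd : ∀ a b : V, S.proj j (a + b) = S.proj j a + S.proj j b := fun a b => by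
    simp only [proj, map_add, smul_add, sum_add_distrib]
  let f : V →+ V := AddMonoidHom.mk' (S.proj j) hadd
  have h1 : f (∑ k ∈ range S.r, u k) = 0 := by rw [h, map_zero]
  rw [map_sum, sum_eq_single j] at h1
  · simpa [f, S.proj_of_mem hj hj (hu j hj)] using h1
  · intro k hk hkj
    show S.proj j (u k) = 0
    rw [S.proj_of_mem hj (mem_range.mp hk) (hu k (mem_range.mp hk)), if_neg (Ne.symm hkj)]
  · exact fun h => absurd (mem_range.mpr hj) h

/-- A vector in two different eigenspaces vanishes. -/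
theorem eq_zero_of_mem {i j : ℕ} (hi : i < S.r) (hj : j < S.r) (hij : i ≠ j) {u : V}
    (h1 : u ∈ S.wt i) (h2 : u ∈ S.wt j) : u = 0 := by
  have ha := S.proj_of_mem hi hi h1
  have hb := S.proj_of_mem hi hj h2
  rw [if_pos rfl] at ha
  rw [if_neg hij, ha] at hb
  exact hb

/-- The centraliser of `l`. -/
def C : Subgroup (Aut V) := H.B ⊓ Subgroup.centralizer {S.l}

theorem mem_C {x : Aut V} : x ∈ S.C ↔ x ∈ H.B ∧ x * S.l = S.l * x :=
  and_congr Iff.rfl Subgroup.mem_centralizer_singleton_iff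

theorem l_mem_C : S.l ∈ S.C := S.mem_C.mpr ⟨S.hl, rfl⟩

theorem C_mem_wt {c : Aut V} (hc : c ∈ S.C) {j : ℕ} {u : V} (hu : u ∈ S.wt j) : c u ∈ S.wt j := by
  rw [mem_wt, ← H.lin c (S.mem_C.mp hc).1, ← S.mem_wt.mp hu, ← LinearEquiv.mul_apply,
    ← LinearEquiv.mul_apply, (S.mem_C.mp hc).2]

theorem decomp [Nontrivial V] {x : Aut V} (hx : x ∈ H.B) :
    ∃ (j : ℕ) (c : Aut V), j < S.r ∧ c ∈ S.C ∧ x = S.y ^ j * c := by
  obtain ⟨d, hd⟩ := H.comm S.l S.hl x hx
  have hdr := H.comm_pow_eq_one S.hl hx hd (d := 1) (by rw [S.hlr, map_one])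
  haveI : NeZero S.r := ⟨S.hr.ne_zero⟩
  obtain ⟨j, hj, hjd⟩ := S.prim.eq_pow_of_pow_eq_one
    (show (d : K) ^ S.r = 1 by rw [← Units.val_pow_eq_pow_val, hdr, Units.val_one])
  have hjd' : S.ζ ^ j = d := Units.ext (by rw [Units.val_pow_eq_pow_val, hjd])
  refine ⟨j, (S.y ^ j)⁻¹ * x, hj, S.mem_C.mpr ⟨mul_mem (inv_mem (pow_mem S.hy j)) hx, ?_⟩,
    (mul_inv_cancel_left _ _).symm⟩
  have hyl := H.pow_comm S.hy S.hly j
  rw [hjd'] at hyl
  have hB := inv_mem (pow_mem S.hy j)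
  calc (S.y ^ j)⁻¹ * x * S.l = (S.y ^ j)⁻¹ * (scal d⁻¹ * (S.l * x)) := by
        rw [mul_assoc, Heis.comm_symm hd]
    _ = scal d⁻¹ * ((S.y ^ j)⁻¹ * S.l * x) := by rw [H.mul_scal hB, mul_assoc]
    _ = S.l * ((S.y ^ j)⁻¹ * x) := by
        have h1 : (S.y ^ j)⁻¹ * S.l = scal d * (S.l * (S.y ^ j)⁻¹) :=
          calc (S.y ^ j)⁻¹ * S.l = (S.y ^ j)⁻¹ * (S.l * S.y ^ j) * (S.y ^ j)⁻¹ := by group
            _ = (S.y ^ j)⁻¹ * (scal d * (S.y ^ j * S.l)) * (S.y ^ j)⁻¹ := by rw [hyl]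
            _ = scal d * (S.l * (S.y ^ j)⁻¹) := by
              rw [H.mul_scal hB]; group
        rw [h1]
        simp only [← mul_assoc, ← map_mul, inv_mul_cancel, map_one, one_mul]

/-- An element sending a nonzero fixed vector to a fixed vector centralises `l`. -/
theorem mem_C_of_W [Nontrivial V] {x : Aut V} (hx : x ∈ H.B) {u : V} (hu : u ∈ S.W) (hu0 : u ≠ 0)
    (hxu : x u ∈ S.W) : x ∈ S.C := by
  obtain ⟨j, c, hj, hc, rfl⟩ := S.decomp hx
  have h1 := S.y_mem_wt (S.C_mem_wt hc hu) j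
  rw [zero_add] at h1
  by_cases hj0 : j = 0
  · subst hj0; simpa using hc
  · have h2 := S.eq_zero_of_mem S.hr.pos hj (Ne.symm hj0) hxu h1
    refine absurd ?_ hu0
    exact (S.y ^ j * c).injective (h2.trans (map_zero (S.y ^ j * c)).symm)

theorem exists_pre {j : ℕ} (hj : j < S.r) {u : V} (hu : u ∈ S.wt j) :
    ∃ u' ∈ S.W, (S.y ^ j) u' = u := by
  refine ⟨((S.m⁻¹ : Kˣ) : K) • (S.y ^ (S.r - j)) u, Submodule.smul_mem _ _ ?_, ?_⟩
  · have h := S.y_mem_wt hu (S.r - j)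
    rw [S.wt_congr (show (j + (S.r - j)) % S.r = 0 % S.r by rw [Nat.add_sub_cancel' hj.le, Nat.mod_self, Nat.zero_mod])] at h
    exact h
  · rw [H.lin _ (pow_mem S.hy j), ← LinearEquiv.mul_apply, ← pow_add, Nat.add_sub_cancel' hj.le,
      S.hym, scal_apply, smul_smul, ← Units.val_mul, inv_mul_cancel, Units.val_one, one_smul]

/-- Elements agreeing on every eigenspace are equal. -/
theorem ext_wt {a b : Aut V} (h : ∀ j < S.r, ∀ u ∈ S.wt j, a u = b u) : a = b := by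
  refine LinearEquiv.ext fun u => ?_
  rw [← S.sum_proj u, map_sum, map_sum]
  exact sum_congr rfl fun j hj => h j (mem_range.mp hj) _ (S.proj_mem j u)

/-- An element centralising `l` and fixing the fixed space is a power of `l`. -/
theorem eq_pow_of_fix [Nontrivial V] {c : Aut V} (hc : c ∈ S.C) (hfix : ∀ u ∈ S.W, c u = u) :
    ∃ i, i < S.r ∧ c = S.l ^ i := by
  have hcB := (S.mem_C.mp hc).1
  obtain ⟨d, hd⟩ := H.comm c hcB S.y S.hy
  have hdr : d ^ S.r = 1 := by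
    have := H.comm_pow_eq_one S.hy hcB (Heis.comm_symm hd) S.hym
    simpa using this
  haveI : NeZero S.r := ⟨S.hr.ne_zero⟩
  obtain ⟨i, hi, hid⟩ := S.prim.eq_pow_of_pow_eq_one
    (show (d : K) ^ S.r = 1 by rw [← Units.val_pow_eq_pow_val, hdr, Units.val_one])
  refine ⟨i, hi, S.ext_wt fun j hj u hu => ?_⟩
  obtain ⟨w, hw, rfl⟩ := S.exists_pre hj hu
  have h1 := LinearEquiv.congr_fun (H.pow_comm S.hy hd j) w
  simp only [LinearEquiv.mul_apply, scal_apply, hfix w hw, Units.val_pow_eq_pow_val] at h1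
  have h2 := LinearEquiv.congr_fun (H.pow_comm S.hy (H.comm_pow S.hl S.hly i) j) w
  simp only [LinearEquiv.mul_apply, scal_apply, Units.val_pow_eq_pow_val] at h2
  rw [aut_fix_pow (S.mem_W.mp hw)] at h2
  rw [h1, h2, hid]

/-- An element fixing a nonzero fixed vector that is fixed only by powers of `l`. -/
theorem eq_pow_of_W [Nontrivial V] {u₁ : V} (hu : u₁ ∈ S.W) (hu0 : u₁ ≠ 0)
    (hfix : ∀ c ∈ S.C, c u₁ = u₁ → ∀ u ∈ S.W, c u = u) {x : Aut V} (hx : x ∈ H.B)
    (hxu : x u₁ = u₁) : ∃ i, i < S.r ∧ x = S.l ^ i := by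
  have hc := S.mem_C_of_W hx hu hu0 (hxu.symm ▸ hu)
  exact S.eq_pow_of_fix hc (hfix x hc hxu)

/-- The action on the fixed space. -/
def resEquiv (c : Aut V) (hc : ∀ u, u ∈ S.W ↔ c u ∈ S.W) : Aut S.W :=
  AddEquiv.toIntLinearEquiv
    { toFun := fun u => ⟨c u, (hc u).mp u.2⟩
      invFun := fun u => ⟨c.symm u, (hc _).mpr (by rw [c.apply_symm_apply]; exact u.2)⟩
      left_inv := fun u => Subtype.ext (c.symm_apply_apply u)
      right_inv := fun u => Subtype.ext (c.apply_symm_apply u)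
      map_add' := fun a b => Subtype.ext (map_add c (a : V) b) }

/-- The automorphisms preserving the fixed space. -/
def stab : Subgroup (Aut V) where
  carrier := {c | ∀ u, u ∈ S.W ↔ c u ∈ S.W}
  one_mem' := fun _ => Iff.rfl
  mul_mem' := fun {a b} ha hb u => by rw [LinearEquiv.mul_apply, hb u, ha]
  inv_mem' := fun {a} ha u => by
    rw [ha (a⁻¹ u), ← LinearEquiv.mul_apply, mul_inv_cancel]
    rfl

theorem mem_stab {c : Aut V} : c ∈ S.stab ↔ ∀ u, u ∈ S.W ↔ c u ∈ S.W := Iff.rfl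

/-- Restriction to the fixed space. -/
def res : S.stab →* Aut S.W where
  toFun c := S.resEquiv c c.2
  map_one' := LinearEquiv.ext fun _ => rfl
  map_mul' _ _ := LinearEquiv.ext fun _ => rfl

@[simp] theorem res_apply (c : S.stab) (u : S.W) : ((S.res c u : S.W) : V) = (c : Aut V) u := rfl

theorem C_le_stab : S.C ≤ S.stab := fun c hc u => by
  refine ⟨fun h => S.C_mem_wt hc h, fun h => ?_⟩
  have := S.C_mem_wt (inv_mem hc) h
  rw [← LinearEquiv.mul_apply, inv_mul_cancel] at this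
  exact this

/-- The group induced on the fixed space. -/
def sub [Nontrivial V] : Heis K S.W where
  B := (S.C.subgroupOf S.stab).map S.res
  scal_mem c := by
    have hc : (scal c : Aut V) ∈ S.C := S.mem_C.mpr ⟨H.scal_mem c, (H.scal_comm S.hl c).symm⟩
    exact ⟨⟨scal c, S.C_le_stab hc⟩, hc, LinearEquiv.ext fun u => Subtype.ext rfl⟩
  lin := by
    rintro _ ⟨x, hx, rfl⟩ c u
    exact Subtype.ext (H.lin _ (S.mem_C.mp hx).1 c u)
  comm := by
    rintro _ ⟨x, hx, rfl⟩ _ ⟨z, hz, rfl⟩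
    obtain ⟨c, hc⟩ := H.comm _ (S.mem_C.mp hx).1 _ (S.mem_C.mp hz).1
    exact ⟨c, LinearEquiv.ext fun u => Subtype.ext (LinearEquiv.congr_fun hc (u : V))⟩
  centre := by
    rintro _ ⟨x, hx, rfl⟩ hcomm
    have hxB : (x : Aut V) ∈ H.B := (S.mem_C.mp hx).1
    have hC : ∀ z ∈ S.C, (x : Aut V) * z = z * x := by
      intro z hz
      obtain ⟨e, he⟩ := H.comm _ hxB z (S.mem_C.mp hz).1
      have h1 := LinearEquiv.congr_fun (hcomm (S.res ⟨z, S.C_le_stab hz⟩) ⟨_, hz, rfl⟩) ⟨S.v, S.v_mem⟩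
      have h1' : (x : Aut V) (z S.v) = z ((x : Aut V) S.v) := congrArg Subtype.val h1
      have h2 := LinearEquiv.congr_fun he S.v
      simp only [LinearEquiv.mul_apply] at h2
      rw [h1'] at h2
      have hne : z ((x : Aut V) S.v) ≠ 0 := fun h => S.hv ((x : Aut V).injective
        ((z.injective (h.trans (map_zero z).symm)).trans (map_zero (x : Aut V)).symm))
      rw [he, scal_fix (K := K) hne h2.symm, map_one, one_mul]
    obtain ⟨d, hd⟩ := H.comm _ hxB S.y S.hy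
    have hdr : d ^ S.r = 1 := by
      have := H.comm_pow_eq_one S.hy hxB (Heis.comm_symm hd) S.hym
      simpa using this
    haveI : NeZero S.r := ⟨S.hr.ne_zero⟩
    obtain ⟨i, hi, hid⟩ := S.prim.eq_pow_of_pow_eq_one
      (show (d : K) ^ S.r = 1 by rw [← Units.val_pow_eq_pow_val, hdr, Units.val_one])
    have hid' : S.ζ ^ i = d := Units.ext (by rw [Units.val_pow_eq_pow_val, hid])
    have hli : S.l ^ (S.r - i) * S.y = scal (S.ζ ^ (S.r - i)) * (S.y * S.l ^ (S.r - i)) :=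
      H.comm_pow S.hl S.hly _
    have hxy : ((x : Aut V) * S.l ^ (S.r - i)) * S.y = S.y * ((x : Aut V) * S.l ^ (S.r - i)) := by
      rw [H.mul_comm_left hxB hd hli, ← hid', ← pow_add, Nat.sub_add_cancel hi.le, ← S.hζ,
        pow_orderOf_eq_one, map_one, one_mul]
    have hlC : ∀ z ∈ S.C, S.l ^ (S.r - i) * z = z * S.l ^ (S.r - i) := fun z hz =>
      (Commute.pow_left (show Commute S.l z from (S.mem_C.mp hz).2.symm) _).eq
    obtain ⟨c, hc⟩ := H.centre ((x : Aut V) * S.l ^ (S.r - i)) (mul_mem hxB (pow_mem S.hl _))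
      fun z hz => by
        obtain ⟨j, z', -, hz', rfl⟩ := S.decomp hz
        have h1 : Commute ((x : Aut V) * S.l ^ (S.r - i)) (S.y ^ j) :=
          Commute.pow_right (show Commute _ S.y from hxy) j
        have h2 : Commute ((x : Aut V) * S.l ^ (S.r - i)) z' :=
          Commute.mul_left (show Commute _ z' from hC z' hz') (show Commute _ z' from hlC z' hz')
        exact (h1.mul_right h2).eq
    refine ⟨c, LinearEquiv.ext fun u => Subtype.ext ?_⟩
    have h := LinearEquiv.congr_fun hc (u : V)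
    simp only [LinearEquiv.mul_apply, aut_fix_pow (S.mem_W.mp u.2)] at h
    exact h
  N := H.N
  sqf := H.sqf
  powN := by
    rintro _ ⟨x, hx, rfl⟩
    obtain ⟨c, hc⟩ := H.powN _ (S.mem_C.mp hx).1
    refine ⟨c, ?_⟩
    rw [← map_pow]
    exact LinearEquiv.ext fun u => Subtype.ext (LinearEquiv.congr_fun hc (u : V))

/-- Elements of the group on the fixed space lift. -/
theorem exists_lift [Nontrivial V] {b : Aut S.W} (hb : b ∈ S.sub.B) :
    ∃ c ∈ S.C, ∀ u : S.W, ((b u : S.W) : V) = c u := by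
  obtain ⟨x, hx, rfl⟩ := hb
  exact ⟨x, hx, fun u => rfl⟩

theorem mem_sub [Nontrivial V] {c : Aut V} (hc : c ∈ S.C) :
    S.res ⟨c, S.C_le_stab hc⟩ ∈ S.sub.B := ⟨_, hc, rfl⟩

/-- The induced group of normalising automorphisms. -/
def subΓ (Γ : Subgroup (Aut V)) : Subgroup (Aut S.W) := (Γ.subgroupOf S.stab).map S.res

theorem card_W_lt [Finite V] [Nontrivial V] : Nat.card S.W < Nat.card V := by
  haveI : Finite S.W := inferInstance
  refine lt_of_le_of_ne (Nat.card_le_card_of_injective _ Subtype.val_injective) fun h => ?_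
  obtain ⟨u, hu, hu0⟩ : ∃ u ∈ S.wt 1, u ≠ 0 := by
    refine ⟨(S.y ^ 1) S.v, ?_, fun e => S.hv ((S.y ^ 1).injective (e.trans (map_zero _).symm))⟩
    simpa using S.y_mem_wt S.v_mem 1
  have hsurj := ((Nat.bijective_iff_injective_and_card Subtype.val).mpr ⟨Subtype.val_injective, h⟩).2
  obtain ⟨w, rfl⟩ := hsurj u
  exact hu0 (S.eq_zero_of_mem S.hr.pos S.hr.one_lt zero_ne_one w.2 hu)

end Split

end Cfsg.Agent.Lib.BaseSize.Pauli
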