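/-
Normalising automorphisms fixing a vector of the fixed space.
-/
import Cfsg.Agent.Lib.BaseSize.Pauli.Split

set_option autoImplicit false
set_option linter.unusedSectionVars false

namespace Cfsg.Agent.Lib.BaseSize.Pauli

universe u v

variable {K : Type u} [Field K] {V : Type v} [AddCommGroup V] [Module K V]

theorem Heis.pow_apply_of_eigen (H : Heis K V) {g : Aut V} (hg : g ∈ H.B) {x : V} {a : K}
    (h : g x = a • x) (n : ℕ) : (g ^ n) x = a ^ n • x := by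
  induction n with
  | zero => simp
  | succ n ih => rw [pow_succ', LinearEquiv.mul_apply, ih, H.lin g hg, h, smul_smul, ← pow_succ]

/-- Conjugation carries an action on a vector to the conjugate. -/
theorem conj_apply_fix {γ g : Aut V} {u : V} (hu : γ u = u) : (γ * g * γ⁻¹) u = γ (g u) := by
  rw [LinearEquiv.mul_apply, LinearEquiv.mul_apply, aut_fix_inv hu]

namespace Split

variable {H : Heis K V} (S : Split H) [Finite V] [Nontrivial V]

theorem proj_add (j : ℕ) (a b : V) : S.proj j (a + b) = S.proj j a + S.proj j b := by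
  simp only [proj, map_add, smul_add, Finset.sum_add_distrib]

theorem proj_wt {j a : ℕ} (hj : j < S.r) {u : V} (hu : u ∈ S.wt a) :
    S.proj j u = if j = a % S.r then u else 0 :=
  S.proj_of_mem hj (Nat.mod_lt _ S.hr.pos) (by rwa [S.wt_congr (Nat.mod_mod a S.r)])

theorem l_ne_one : S.l ≠ 1 := by
  intro h
  have h1 := S.hly
  rw [h, one_mul, mul_one] at h1
  have h2 : (scal S.ζ : Aut V) = 1 := mul_eq_right.mp h1.symm
  have h3 : S.ζ = 1 := scal_injective (V := V) (by rw [h2, map_one])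
  exact S.hr.ne_one (by rw [← S.hζ, h3, orderOf_one])

/-- A fixed vector fixed only trivially on the fixed space. -/
def Reg (u₁ : V) : Prop :=
  u₁ ∈ S.W ∧ u₁ ≠ 0 ∧ ∀ c ∈ S.C, c u₁ = u₁ → ∀ u ∈ S.W, c u = u

theorem reg_of_semi {Γ : Subgroup (Aut S.W)} {u₁ u₂ : S.W} (h : S.sub.Semi Γ u₁ u₂) :
    S.Reg u₁ := by
  refine ⟨u₁.2, fun e => h.ne_zero (Subtype.ext e), fun c hc hcu u hu => ?_⟩
  have h1 := h.1.2 _ (S.mem_sub hc) (Subtype.ext hcu)
  exact congrArg Subtype.val (LinearEquiv.congr_fun h1 ⟨u, hu⟩)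

/-- Only scalars act on the fixed space. -/
def Flat : Prop :=
  ∀ c ∈ S.C, ∃ d : Kˣ, ∀ u ∈ S.W, c u = (d : K) • u

theorem flat_of_sub (h : ∀ b ∈ S.sub.B, ∃ d : Kˣ, b = scal d) : S.Flat := by
  intro c hc
  obtain ⟨d, hd⟩ := h _ (S.mem_sub hc)
  exact ⟨d, fun u hu => congrArg Subtype.val (LinearEquiv.congr_fun hd ⟨u, hu⟩)⟩

theorem reg_of_flat (h : S.Flat) {u₁ : V} (hu : u₁ ∈ S.W) (h0 : u₁ ≠ 0) : S.Reg u₁ := by
  refine ⟨hu, h0, fun c hc hcu u hu' => ?_⟩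
  obtain ⟨d, hd⟩ := h c hc
  have hd1 : d = 1 := scal_fix (V := V) h0 ((hd u₁ hu).symm.trans hcu)
  rw [hd u hu', hd1, Units.val_one, one_smul]

variable {p : ℕ} {Γ : Subgroup (Aut V)}

/-- A fixer permutes the eigenspaces. -/
theorem weights [Finite K] (hΓ : H.Acts p Γ) {γ : Aut V} (hγ : γ ∈ Γ) {u₁ : V} (hR : S.Reg u₁)
    (hfix : γ u₁ = u₁) :
    ∃ k, ¬ S.r ∣ k ∧ ∀ j, ∀ u ∈ S.wt j, γ u ∈ S.wt (k * j) := by
  haveI : NeZero S.r := ⟨S.hr.ne_zero⟩
  haveI : Fact S.r.Prime := ⟨S.hr⟩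
  have hgB : γ * S.l * γ⁻¹ ∈ H.B := hΓ.norm γ hγ _ S.hl
  obtain ⟨i, hi, hgi⟩ := S.eq_pow_of_W hR.1 hR.2.1 hR.2.2 hgB
    (by rw [conj_apply_fix hfix, S.mem_W.mp hR.1, hfix])
  have hi0 : i ≠ 0 := by
    intro h
    subst h
    rw [pow_zero, mul_inv_eq_one, mul_eq_left] at hgi
    exact S.l_ne_one hgi
  have hiu : (i : ZMod S.r) ≠ 0 := by
    rw [Ne, ZMod.natCast_eq_zero_iff]
    exact fun h => hi0 (Nat.eq_zero_of_dvd_of_lt h hi)
  obtain ⟨c, hc⟩ := H.conj_scal (hΓ.norm γ hγ) S.ζ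
  have hcr : c ^ S.r = 1 := by
    refine scal_injective (V := V) ?_
    rw [map_pow, map_one, ← hc, conj_pow, ← map_pow, ← S.hζ, pow_orderOf_eq_one, map_one, mul_one,
      mul_inv_cancel]
  obtain ⟨s, hs, hsc⟩ := S.prim.eq_pow_of_pow_eq_one
    (show (c : K) ^ S.r = 1 by rw [← Units.val_pow_eq_pow_val, hcr, Units.val_one])
  have hs0 : s ≠ 0 := by
    intro h
    subst h
    have hc1 : c = 1 := Units.ext (by rw [← hsc, pow_zero, Units.val_one])
    rw [hc1, map_one, mul_inv_eq_one, mul_eq_left] at hc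
    have : S.ζ = 1 := scal_injective (V := V) (by rw [hc, map_one])
    exact S.hr.ne_one (by rw [← S.hζ, this, orderOf_one])
  set i' := ((i : ZMod S.r)⁻¹).val with hi'
  have hii : i * i' % S.r = 1 := by
    have h1 : ((i * i' : ℕ) : ZMod S.r) = ((1 : ℕ) : ZMod S.r) := by
      rw [Nat.cast_mul, hi', ZMod.natCast_val, ZMod.cast_id', id, mul_inv_cancel₀ hiu, Nat.cast_one]
    rw [ZMod.natCast_eq_natCast_iff] at h1
    rw [h1, Nat.one_mod_eq_one.mpr S.hr.ne_one]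
  have hlii : S.l ^ (i * i') = S.l := by
    rw [pow_eq_pow_mod _ S.hlr, hii, pow_one]
  refine ⟨s * i', ?_, fun j u hu => ?_⟩
  · intro h
    rcases S.hr.dvd_mul.mp h with h | h
    · exact hs0 (Nat.eq_zero_of_dvd_of_lt h hs)
    · have := (Nat.mod_eq_zero_of_dvd (Dvd.dvd.mul_left h i) : i * i' % S.r = 0)
      omega
  · have hsmul : ∀ (n : ℕ) (x : V), γ (((S.ζ : K) ^ n) • x) = ((c : K) ^ n) • γ x := by
      intro n
      induction n with
      | zero => simp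
      | succ n ih =>
        intro x
        have h1 : γ ((S.ζ : K) • x) = (c : K) • γ x := by
          have := LinearEquiv.congr_fun hc (γ x)
          simp only [LinearEquiv.mul_apply, scal_apply] at this
          rw [← this]
          exact congrArg (fun t => γ ((S.ζ : K) • t)) (γ.symm_apply_apply x).symm
        rw [pow_succ, mul_smul, ih, h1, smul_smul, ← pow_succ]
    have h2 : (S.l ^ i) (γ u) = ((S.ζ : K) ^ (s * j)) • γ u := by
      rw [← hgi]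
      show γ (S.l (γ⁻¹ (γ u))) = _
      rw [show γ⁻¹ (γ u) = u from γ.symm_apply_apply u, S.mem_wt.mp hu, hsmul, ← hsc, ← pow_mul]
    have h3 := H.pow_apply_of_eigen (pow_mem S.hl i) h2 i'
    rw [← pow_mul, hlii, ← pow_mul] at h3
    rw [mem_wt, h3]
    congr 2
    ring

/-- A fixer preserves the fixed space. -/
theorem mem_stab_of_fix [Finite K] (hΓ : H.Acts p Γ) {γ : Aut V} (hγ : γ ∈ Γ) {u₁ : V}
    (hR : S.Reg u₁) (hfix : γ u₁ = u₁) : γ ∈ S.stab := by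
  intro u
  have key : ∀ δ ∈ Γ, δ u₁ = u₁ → ∀ x ∈ S.W, δ x ∈ S.W := by
    intro δ hδ hd x hx
    obtain ⟨k, -, hk⟩ := S.weights hΓ hδ hR hd
    simpa using hk 0 x hx
  refine ⟨key γ hγ hfix u, fun h => ?_⟩
  have h1 := key γ⁻¹ (inv_mem hγ) (aut_fix_inv hfix) _ h
  rwa [show γ⁻¹ (γ u) = u from γ.symm_apply_apply u] at h1

/-- A fixer commuting with the induced group fixes the scalars. -/
theorem scal_comm_of_W (hΓ : H.Acts p Γ) {γ : Aut V} (hγ : γ ∈ Γ) {u₁ : V} (hR : S.Reg u₁)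
    (hfix : γ u₁ = u₁) (hW : ∀ c ∈ S.C, ∀ u ∈ S.W, γ (c u) = c (γ u)) (c : Kˣ) :
    γ * scal c = scal c * γ := by
  obtain ⟨d, hd⟩ := H.conj_scal (hΓ.norm γ hγ) c
  have hc : (scal c : Aut V) ∈ S.C := S.mem_C.mpr ⟨H.scal_mem c, (H.scal_comm S.hl c).symm⟩
  have h1 := LinearEquiv.congr_fun hd u₁
  rw [conj_apply_fix hfix, hW _ hc _ hR.1, hfix, scal_apply, scal_apply] at h1
  have hdc : d = c := Units.ext (smul_left_injective K hR.2.1 h1.symm)
  rw [hdc, mul_inv_eq_iff_eq_mul] at hd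
  exact hd

/-- A fixer commuting with the induced group and with `y` centralises the group. -/
theorem commutes_of [Finite K] (hΓ : H.Acts p Γ) {γ : Aut V} (hγ : γ ∈ Γ) {u₁ : V} (hR : S.Reg u₁)
    (hfix : γ u₁ = u₁) (hW : ∀ c ∈ S.C, ∀ u ∈ S.W, γ (c u) = c (γ u))
    (hy : γ * S.y = S.y * γ) : ∀ x ∈ H.B, γ * x = x * γ := by
  have hst := S.mem_stab_of_fix hΓ hγ hR hfix
  have hC : ∀ c ∈ S.C, Commute γ c := by
    intro c hc
    have hgB : γ * c * γ⁻¹ ∈ H.B := hΓ.norm γ hγ _ (S.mem_C.mp hc).1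
    have hgC : γ * c * γ⁻¹ ∈ S.C := by
      refine S.mem_C_of_W hgB hR.1 hR.2.1 ?_
      rw [conj_apply_fix hfix]
      exact (hst _).mp (S.C_mem_wt hc hR.1)
    obtain ⟨s, hs, hcs⟩ := S.eq_pow_of_fix (mul_mem (inv_mem hc) hgC) fun u hu => by
      have hu' : γ⁻¹ u ∈ S.W := (inv_mem hst u).mp hu
      show c⁻¹ (γ (c (γ⁻¹ u))) = u
      rw [hW c hc _ hu', show γ (γ⁻¹ u) = u from γ.apply_symm_apply u]
      exact c.symm_apply_apply u
    rw [inv_mul_eq_iff_eq_mul] at hcs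
    obtain ⟨d, hd⟩ := H.comm c (S.mem_C.mp hc).1 S.y S.hy
    have h1 : (γ * c * γ⁻¹) * S.y = scal d * (S.y * (γ * c * γ⁻¹)) :=
      calc (γ * c * γ⁻¹) * S.y = γ * c * (γ⁻¹ * (S.y * γ)) * γ⁻¹ := by group
        _ = γ * (c * S.y) * γ⁻¹ := by rw [← hy]; group
        _ = γ * scal d * (S.y * c) * γ⁻¹ := by rw [hd]; group
        _ = scal d * ((γ * S.y) * c * γ⁻¹) := by
            rw [S.scal_comm_of_W hΓ hγ hR hfix hW d]; group
        _ = scal d * (S.y * (γ * c * γ⁻¹)) := by rw [hy]; group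
    rw [hcs, H.mul_comm_left (S.mem_C.mp hc).1 hd (H.comm_pow S.hl S.hly s)] at h1
    have h2 : S.ζ ^ s * d = d := scal_injective (V := V) (mul_right_cancel h1)
    have h3 : S.ζ ^ s = 1 := mul_eq_right.mp h2
    have hs0 : s = 0 := Nat.eq_zero_of_dvd_of_lt (S.hζ ▸ orderOf_dvd_of_pow_eq_one h3) hs
    subst hs0
    rw [pow_zero, mul_one, mul_inv_eq_iff_eq_mul] at hcs
    exact hcs
  intro x hx
  obtain ⟨j, c, -, hc, rfl⟩ := S.decomp hx
  exact (Commute.mul_right (Commute.pow_right (show Commute γ S.y from hy) j) (hC c hc)).eq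

/-- A fixer of `u₁` and `y u₁` moves `y` by a power of `l`. -/
theorem conj_y (hΓ : H.Acts p Γ) {γ : Aut V} (hγ : γ ∈ Γ) {u₁ : V} (hR : S.Reg u₁)
    (hfix : γ u₁ = u₁) (h1 : γ (S.y u₁) = S.y u₁) :
    ∃ t, t < S.r ∧ γ * S.y * γ⁻¹ = S.y * S.l ^ t := by
  obtain ⟨t, ht, h⟩ := S.eq_pow_of_W hR.1 hR.2.1 hR.2.2
    (mul_mem (inv_mem S.hy) (hΓ.norm γ hγ _ S.hy)) (by
      rw [LinearEquiv.mul_apply, conj_apply_fix hfix, h1]
      exact S.y.symm_apply_apply u₁)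
  exact ⟨t, ht, inv_mul_eq_iff_eq_mul.mp h⟩

/-- For `r = 2` the squares show that `y` is fixed. -/
theorem y_comm_two (hΓ : H.Acts p Γ) {γ : Aut V} (hγ : γ ∈ Γ) {u₁ : V} (hR : S.Reg u₁)
    (hfix : γ u₁ = u₁) (h1 : γ (S.y u₁) = S.y u₁) (hr : S.r = 2)
    (hσ : ∀ c : Kˣ, γ * scal c = scal c * γ) : γ * S.y = S.y * γ := by
  obtain ⟨t, ht, h⟩ := S.conj_y hΓ hγ hR hfix h1
  have h2 : (γ * S.y * γ⁻¹) ^ S.r = scal S.m := by
    rw [conj_pow, S.hym, hσ, mul_inv_cancel_right]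
  rw [hr] at ht
  interval_cases t
  · rwa [pow_zero, mul_one, mul_inv_eq_iff_eq_mul] at h
  · exfalso
    rw [h, pow_one, hr, sq, mul_assoc, ← mul_assoc S.l S.y, S.hly] at h2
    have hy2 : S.y * S.y = scal S.m := by rw [← sq, ← hr, S.hym]
    have hll : S.l * S.l = 1 := by rw [← sq, ← hr, S.hlr]
    rw [mul_assoc (scal S.ζ), mul_assoc S.y S.l, hll, mul_one, H.mul_scal S.hy, hy2, ← map_mul] at h2
    have h3 : S.ζ = 1 := mul_eq_right.mp (scal_injective (V := V) h2)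
    exact S.hr.ne_one (by rw [← S.hζ, h3, orderOf_one])

/-- In general a further fixed vector in the square of `y` is needed. -/
theorem y_comm_sq (hΓ : H.Acts p Γ) {γ : Aut V} (hγ : γ ∈ Γ) {u₁ : V} (hR : S.Reg u₁)
    (hfix : γ u₁ = u₁) (h1 : γ (S.y u₁) = S.y u₁) {u : V} (hu : u ∈ S.W) (hu0 : u ≠ 0)
    (hufix : γ u = u) (h2 : γ (S.y (S.y u)) = S.y (S.y u)) : γ * S.y = S.y * γ := by
  obtain ⟨t, ht, h⟩ := S.conj_y hΓ hγ hR hfix h1
  have e : (S.y * S.l ^ t) ((S.y * S.l ^ t) u) = S.y (S.y u) := by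
    rw [← h, conj_apply_fix hufix]
    show γ (S.y (γ⁻¹ (γ (S.y u)))) = _
    rw [show γ⁻¹ (γ (S.y u)) = S.y u from γ.symm_apply_apply _, h2]
  simp only [LinearEquiv.mul_apply, aut_fix_pow (S.mem_W.mp hu)] at e
  have h3 : S.y u ∈ S.wt 1 := by simpa using S.y_mem_wt hu 1
  rw [S.pow_l_apply h3, pow_one, H.lin _ S.hy] at e
  have hne : S.y (S.y u) ≠ 0 := fun z => hu0 (S.y.injective ((S.y.injective (z.trans
    (map_zero S.y).symm)).trans (map_zero S.y).symm))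
  have hz : S.ζ ^ t = 1 := scal_fix (K := K) hne (by
    rw [scal_apply, Units.val_pow_eq_pow_val]
    exact e)
  have ht0 : t = 0 := Nat.eq_zero_of_dvd_of_lt (S.hζ ▸ orderOf_dvd_of_pow_eq_one hz) ht
  subst ht0
  rwa [pow_zero, mul_one, mul_inv_eq_iff_eq_mul] at h

end Split

end Cfsg.Agent.Lib.BaseSize.Pauli
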