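/-
Lifting pinning pairs from the fixed space.
-/
import Cfsg.Agent.Lib.BaseSize.Pauli.Fixer

set_option autoImplicit false
set_option linter.unusedSectionVars false

namespace Cfsg.Agent.Lib.BaseSize.Pauli

universe u v

variable {K : Type u} [Field K] {V : Type v} [AddCommGroup V] [Module K V]

namespace Split

variable {H : Heis K V} (S : Split H) [Finite V] [Nontrivial V] [Finite K]
  {p : ℕ} {Γ : Subgroup (Aut V)}

theorem acts_sub (hΓ : H.Acts p Γ) : S.sub.Acts p (S.subΓ Γ) := by
  refine ⟨fun h => hΓ.reg (h.trans ?_), ?_⟩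
  · have h1 : Nat.card (S.subΓ Γ) ∣ Nat.card (Γ.subgroupOf S.stab) := Subgroup.card_map_dvd _ _
    exact h1.trans (Subgroup.card_comap_dvd_of_injective _ _ Subtype.val_injective)
  · rintro _ ⟨⟨γ, hst⟩, hγ, rfl⟩ _ ⟨⟨c, hcs⟩, hc, rfl⟩
    have hγ' : γ ∈ Γ := hγ
    have hg : γ * c * γ⁻¹ ∈ S.C := by
      refine S.mem_C_of_W (hΓ.norm γ hγ' c (S.mem_C.mp hc).1) S.v_mem S.hv ?_
      exact (hst _).mp ((hcs _).mp ((inv_mem hst _).mp S.v_mem))
    refine ⟨⟨γ * c * γ⁻¹, S.C_le_stab hg⟩, hg, ?_⟩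
    rw [← map_inv, ← map_mul, ← map_mul]
    rfl

/-- The lifted vector. -/
def mix (a b : V) : V := b + S.y a + if S.r = 2 then 0 else S.y (S.y b)

theorem y_wt {a : V} (ha : a ∈ S.W) : S.y a ∈ S.wt 1 := by simpa using S.y_mem_wt ha 1

theorem yy_wt {a : V} (ha : a ∈ S.W) : S.y (S.y a) ∈ S.wt 2 := by
  have := S.y_mem_wt ha 2
  rw [pow_two, LinearEquiv.mul_apply, zero_add] at this
  exact this

theorem y_ne {a : V} (ha : a ≠ 0) : S.y a ≠ 0 :=
  fun h => ha (S.y.injective (h.trans (map_zero S.y).symm))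

theorem proj_mix {a b : V} (ha : a ∈ S.W) (hb : b ∈ S.W) {j : ℕ} (hj : j < S.r) :
    S.proj j (S.mix a b) = (if j = 0 then b else 0) + (if j = 1 then S.y a else 0) +
      if j = 2 then S.y (S.y b) else 0 := by
  rw [mix, S.proj_add, S.proj_add, S.proj_wt hj hb, S.proj_wt hj (S.y_wt ha), Nat.zero_mod,
    Nat.one_mod_eq_one.mpr S.hr.ne_one]
  congr 1
  split_ifs with h1 h2 h2
  · omega
  · exact S.proj_of_mem hj S.hr.pos (Submodule.zero_mem _) |>.trans (by split_ifs <;> rfl)
  · rw [S.proj_wt hj (S.yy_wt hb), Nat.mod_eq_of_lt (by omega), if_pos h2]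
  · rw [S.proj_wt hj (S.yy_wt hb), Nat.mod_eq_of_lt (by have := S.hr.two_le; omega), if_neg h2]

theorem mix_ne_zero {a b : V} (ha : a ∈ S.W) (hb : b ∈ S.W) (hb0 : b ≠ 0) : S.mix a b ≠ 0 := by
  intro h
  have h1 := S.proj_mix ha hb S.hr.pos
  rw [h, S.proj_of_mem S.hr.pos S.hr.pos (Submodule.zero_mem _)] at h1
  simp at h1
  exact hb0 h1.symm

/-- Lifting a pinning pair. -/
theorem pins_step (hΓ : H.Acts p Γ) {a b : S.W} (h : S.sub.Semi (S.subΓ Γ) a b) (hb0 : b ≠ 0)
    (horb : S.r = 2 ∨ ∀ c ∈ S.sub.B, c a ≠ b) : H.Pins Γ a (S.mix a b) := by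
  intro γ hγ hfa hfw
  have hR := S.reg_of_semi h
  have ha0 : (a : V) ≠ 0 := hR.2.1
  have hb0' : (b : V) ≠ 0 := fun e => hb0 (Subtype.ext e)
  have hst := S.mem_stab_of_fix hΓ hγ hR hfa
  obtain ⟨k, hk, hwt⟩ := S.weights hΓ hγ hR hfa
  have g0 : γ b ∈ S.wt 0 := by simpa using hwt 0 _ b.2
  have g1 : γ (S.y a) ∈ S.wt k := by simpa using hwt 1 _ (S.y_wt a.2)
  have g2 : γ (S.y (S.y b)) ∈ S.wt (k * 2) := hwt 2 _ (S.yy_wt b.2)
  have gne : γ (S.y a) ≠ 0 := fun e => S.y_ne ha0 (γ.injective (e.trans (map_zero γ).symm))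
  have hk' : k % S.r ≠ 0 := fun e => hk (Nat.dvd_of_mod_eq_zero e)
  have hkey : ∀ j < S.r, (if j = 0 then γ b else 0) + (if j = k % S.r then γ (S.y a) else 0) +
      (if S.r = 2 then 0 else if j = k * 2 % S.r then γ (S.y (S.y b)) else 0) =
      (if j = 0 then (b : V) else 0) + (if j = 1 then S.y a else 0) +
        if j = 2 then S.y (S.y b) else 0 := by
    intro j hj
    rw [← S.proj_mix a.2 b.2 hj]
    conv_rhs => rw [← hfw, mix]
    rw [map_add, map_add, S.proj_add, S.proj_add, S.proj_wt hj g0, S.proj_wt hj g1, Nat.zero_mod]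
    congr 1
    split_ifs with h1 h2
    · rw [map_zero]
      exact (S.proj_of_mem hj S.hr.pos (Submodule.zero_mem _) |>.trans (by split_ifs <;> rfl)).symm
    · rw [S.proj_wt hj g2, if_pos h2]
    · rw [S.proj_wt hj g2, if_neg h2]
  have hfb : γ b = b := by
    have := hkey 0 S.hr.pos
    rw [if_neg (Ne.symm hk'), if_neg (zero_ne_one (α := ℕ)), if_neg (show (0 : ℕ) ≠ 2 by omega)] at this
    simp only [if_true, add_zero] at this
    split_ifs at this with h1 h2
    · simpa using this
    · exfalso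
      have h3 := Nat.dvd_of_mod_eq_zero h2.symm
      rcases S.hr.dvd_mul.mp h3 with h3 | h3
      · exact hk h3
      · exact h1 ((Nat.prime_dvd_prime_iff_eq S.hr Nat.prime_two).mp h3)
    · simpa using this
  have h1y : γ (S.y a) = S.y a ∧ (S.r ≠ 2 → γ (S.y (S.y b)) = S.y (S.y b)) := by
    have hlt : k % S.r < S.r := Nat.mod_lt _ S.hr.pos
    by_cases hr2 : S.r = 2
    · refine ⟨?_, fun e => absurd hr2 e⟩
      have h1 : k % S.r = 1 := by omega
      have := hkey 1 (by omega)
      simpa [hr2, h1, hr2 ▸ h1] using this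
    have hr3 : 3 ≤ S.r := by
      have := S.hr.two_le
      omega
    have h2k : k * 2 % S.r = k % S.r * 2 % S.r := by rw [Nat.mod_mul_mod]
    have hkne : k * 2 % S.r ≠ k % S.r := by
      intro e
      have : S.r ∣ k := by
        have e' : (k + k) % S.r = k % S.r := by rw [← two_mul, mul_comm, e]
        have := Nat.sub_mod_eq_zero_of_mod_eq e'
        rw [Nat.add_sub_cancel] at this
        exact Nat.dvd_of_mod_eq_zero this
      exact hk this
    have h := hkey (k % S.r) hlt
    rw [if_neg hk', if_pos rfl, if_neg hr2, if_neg (Ne.symm hkne), if_neg hk', zero_add, add_zero,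
      zero_add] at h
    by_cases hk1 : k % S.r = 1
    · have hk2 : k * 2 % S.r = 2 := by rw [h2k, hk1, Nat.mod_eq_of_lt (by omega)]
      have h' := hkey 2 (by omega)
      rw [hk2, hk1] at h'
      rw [hk1] at h
      refine ⟨by simpa using h, fun _ => ?_⟩
      simpa [hr2] using h'
    rw [if_neg hk1, zero_add] at h
    split_ifs at h with hk2
    · exfalso
      have horb' := horb.resolve_left hr2
      have hg : γ * S.y * γ⁻¹ ∈ H.B := hΓ.norm γ hγ _ S.hy
      have hxB : (S.y * S.y)⁻¹ * (γ * S.y * γ⁻¹) ∈ H.B := mul_mem (inv_mem (mul_mem S.hy S.hy)) hg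
      have hxa : ((S.y * S.y)⁻¹ * (γ * S.y * γ⁻¹)) (a : V) = b := by
        rw [LinearEquiv.mul_apply, conj_apply_fix hfa, h]
        exact (S.y * S.y).symm_apply_apply (b : V)
      have hxC := S.mem_C_of_W hxB a.2 ha0 (hxa.symm ▸ b.2)
      exact horb' _ (S.mem_sub hxC) (Subtype.ext hxa)
    · exact absurd h gne
  have hW : ∀ c ∈ S.C, ∀ u ∈ S.W, γ (c u) = c (γ u) := by
    intro c hc u hu
    have hmem : S.res ⟨γ, hst⟩ ∈ S.subΓ Γ := ⟨⟨γ, hst⟩, hγ, rfl⟩
    have h2 := h.2 _ hmem (Subtype.ext hfa) (Subtype.ext hfb) _ (S.mem_sub hc)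
    exact congrArg Subtype.val (LinearEquiv.congr_fun h2 ⟨u, hu⟩)
  have hσ := S.scal_comm_of_W hΓ hγ hR hfa hW
  refine S.commutes_of hΓ hγ hR hfa hW ?_
  by_cases hr2 : S.r = 2
  · exact S.y_comm_two hΓ hγ hR hfa h1y.1 hr2 hσ
  · exact S.y_comm_sq hΓ hγ hR hfa h1y.1 b.2 hb0' hfb (h1y.2 hr2)

theorem mul_wt {c : Aut V} (hc : c ∈ S.C) {i : ℕ} {u : V} (hu : u ∈ S.wt i) (j : ℕ) :
    (S.y ^ j * c) u ∈ S.wt (i + j) :=
  S.y_mem_wt (S.C_mem_wt hc hu) j

/-- Lifting a good pair. -/
theorem good_step (hΓ : H.Acts p Γ) {a b : S.W} (h : S.sub.Good (S.subΓ Γ) a b) :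
    H.Good Γ (S.mix a b) a := by
  obtain ⟨hs, hb0, horb⟩ := h
  have hR := S.reg_of_semi hs
  have ha0 : (a : V) ≠ 0 := hR.2.1
  have hb0' : (b : V) ≠ 0 := fun e => hb0 (Subtype.ext e)
  have hm0 := S.mix_ne_zero a.2 b.2 hb0'
  have hno : ∀ c ∈ S.C, c (a : V) ≠ b := fun c hc e => horb _ (S.mem_sub hc) (Subtype.ext e)
  -- the components of an image of the lifted vector
  have himg : ∀ (n : ℕ) (c : Aut V), c ∈ S.C → ∀ j < S.r, S.proj j ((S.y ^ n * c) (S.mix a b)) =
      (if j = n % S.r then (S.y ^ n * c) b else 0) +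
      (if j = (1 + n) % S.r then (S.y ^ n * c) (S.y a) else 0) +
      (if S.r = 2 then 0 else if j = (2 + n) % S.r then (S.y ^ n * c) (S.y (S.y b)) else 0) := by
    intro n c hc j hj
    rw [mix, map_add, map_add, S.proj_add, S.proj_add, S.proj_wt hj (S.mul_wt hc b.2 n),
      S.proj_wt hj (S.mul_wt hc (S.y_wt a.2) n), zero_add]
    congr 1
    split_ifs with h1 h2
    · rw [map_zero]
      exact S.proj_of_mem hj S.hr.pos (Submodule.zero_mem _) |>.trans (by split_ifs <;> rfl)
    · rw [S.proj_wt hj (S.mul_wt hc (S.yy_wt b.2) n), if_pos h2]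
    · rw [S.proj_wt hj (S.mul_wt hc (S.yy_wt b.2) n), if_neg h2]
  have hne : ∀ (x : Aut V) (u : V), u ≠ 0 → x u ≠ 0 :=
    fun x u hu e => hu (x.injective (e.trans (map_zero x).symm))
  have hr := S.hr.two_le
  refine ⟨⟨⟨hm0, fun x hx hxw => ?_⟩, Heis.Pins.symm (S.pins_step hΓ hs hb0 (Or.inr horb))⟩, ha0,
    fun x hx hxw => ?_⟩
  · obtain ⟨n, c, hn, hc, rfl⟩ := S.decomp hx
    have hk : ∀ j < S.r, _ := fun j hj => (himg n c hc j hj).symm.trans
      ((congrArg (S.proj j) hxw).trans (S.proj_mix a.2 b.2 hj))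
    obtain ⟨d, hd⟩ := H.comm c (S.mem_C.mp hc).1 S.y S.hy
    have hcy : ∀ u, c (S.y u) = (d : K) • S.y (c u) := fun u => LinearEquiv.congr_fun hd u
    rcases Nat.lt_or_ge n 3 with hn3 | hn3
    · interval_cases n
      · -- the element centralises `l`
        have h0 := hk 0 (by omega)
        have h1 := hk 1 (by omega)
        rw [Nat.mod_eq_of_lt (by omega : 1 + 0 < S.r)] at h0 h1
        rw [Nat.zero_mod] at h0 h1
        have e2 : ∀ j, j < 2 → (if S.r = 2 then (0 : V) else if j = (2 + 0) % S.r then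
            (S.y ^ 0 * c) (S.y (S.y b)) else 0) = 0 := by
          intro j hj
          split_ifs with q1 q2
          · rfl
          · exfalso
            rw [Nat.mod_eq_of_lt (by omega)] at q2
            omega
          · rfl
        rw [e2 0 (by omega)] at h0
        rw [e2 1 (by omega)] at h1
        simp at h0 h1
        rw [hcy] at h1
        have hdca : (scal d * c : Aut V) (a : V) = a := S.y.injective (by
          rw [LinearEquiv.mul_apply, scal_apply, H.lin S.y S.hy, h1])
        have hdc : scal d * c ∈ S.C :=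
          mul_mem (S.mem_C.mpr ⟨H.scal_mem d, (H.scal_comm S.hl d).symm⟩) hc
        have h3 := hR.2.2 _ hdc hdca b b.2
        rw [LinearEquiv.mul_apply, scal_apply, h0] at h3
        have hd1 : d = 1 := scal_fix (K := K) hb0' h3
        obtain ⟨i, hi, rfl⟩ := S.eq_pow_of_fix hc fun u hu => by
          have := hR.2.2 _ hdc hdca u hu
          rwa [hd1, map_one, one_mul] at this
        rw [← hcy, S.pow_l_apply (S.y_wt a.2), pow_one] at h1
        have hz : S.ζ ^ i = 1 := scal_fix (K := K) (S.y_ne ha0)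
          (by rw [scal_apply, Units.val_pow_eq_pow_val]; exact h1)
        have hi0 : i = 0 := Nat.eq_zero_of_dvd_of_lt (S.hζ ▸ orderOf_dvd_of_pow_eq_one hz) hi
        simp [hi0]
      · -- the first component goes to the second
        exfalso
        have h1 := hk 1 hn
        rw [Nat.mod_eq_of_lt hn, if_pos rfl] at h1
        have e1 : (1 : ℕ) ≠ (1 + 1) % S.r := by
          intro e
          rcases Nat.lt_or_ge 2 S.r with h | h
          · rw [Nat.mod_eq_of_lt h] at e; omega
          · rw [show S.r = 2 by omega] at e; omega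
        rw [if_neg e1] at h1
        have e2 : (if S.r = 2 then (0 : V) else if 1 = (2 + 1) % S.r then
            (S.y ^ 1 * c) (S.y (S.y b)) else 0) = 0 := by
          split_ifs with q1 q2
          · rfl
          · exfalso
            rcases Nat.lt_or_ge 3 S.r with h | h
            · rw [Nat.mod_eq_of_lt h] at q2; omega
            · rw [show S.r = 3 by omega] at q2; omega
          · rfl
        rw [e2] at h1
        simp at h1
        exact hno c⁻¹ (inv_mem hc) (by rw [← h1]; exact c.symm_apply_apply _)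
      · -- the second component goes to the first
        exfalso
        have h0 := hk 0 S.hr.pos
        rw [Nat.mod_eq_of_lt hn, if_neg (by omega : (0 : ℕ) ≠ 2), if_pos rfl, if_neg (by omega : S.r ≠ 2)]
          at h0
        by_cases hr3 : S.r = 3
        · rw [hr3] at h0
          simp at h0
          have hm : ∀ u, (S.y ^ 2) (S.y u) = (S.m : K) • u := by
            intro u
            rw [← LinearEquiv.mul_apply, ← pow_succ, show 2 + 1 = S.r by omega, S.hym, scal_apply]
          rw [hcy, H.lin _ (pow_mem S.hy 2), hm, smul_smul, ← Units.val_mul] at h0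
          exact hno (scal (d * S.m) * c)
            (mul_mem (S.mem_C.mpr ⟨H.scal_mem _, (H.scal_comm S.hl _).symm⟩) hc) h0
        · rw [Nat.mod_eq_of_lt (by omega : 1 + 2 < S.r), if_neg (by omega : (0 : ℕ) ≠ 1 + 2)] at h0
          have h4 : (2 + 2) % S.r ≠ 0 := by
            intro e
            have h2 := (Nat.prime_dvd_prime_iff_eq S.hr Nat.prime_two).mp
              ((S.hr.dvd_of_dvd_pow (n := 2) (m := 2) (by norm_num; exact Nat.dvd_of_mod_eq_zero e)))
            omega
          rw [if_neg (Ne.symm h4)] at h0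
          simp at h0
          exact hb0' h0.symm
    · exfalso
      have h1 := hk n hn
      rw [Nat.mod_eq_of_lt hn, if_pos rfl] at h1
      have e1 : n ≠ (1 + n) % S.r := by
        rcases Nat.lt_or_ge (1 + n) S.r with h | h
        · rw [Nat.mod_eq_of_lt h]; omega
        · rw [show 1 + n = S.r by omega, Nat.mod_self]; omega
      have e2 : n ≠ (2 + n) % S.r := by
        intro e
        rcases Nat.lt_or_ge (2 + n) S.r with h | h
        · rw [Nat.mod_eq_of_lt h] at e; omega
        · rw [Nat.mod_eq_sub_mod h, Nat.mod_eq_of_lt (by omega)] at e; omega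
      rw [if_neg e1, if_neg (by omega : S.r ≠ 2), if_neg e2] at h1
      rw [if_neg (by omega : n ≠ 0), if_neg (by omega : n ≠ 1), if_neg (by omega : n ≠ 2)] at h1
      simp at h1
      exact hb0 h1
  · obtain ⟨n, c, hn, hc, rfl⟩ := S.decomp hx
    have hk : ∀ j < S.r, _ := fun j hj => (himg n c hc j hj).symm.trans
      ((congrArg (S.proj j) hxw).trans (S.proj_wt hj a.2))
    by_cases hn0 : n = 0
    · subst hn0
      have h1 := hk 1 (by omega)
      rw [Nat.zero_mod, Nat.mod_eq_of_lt (by omega : 1 + 0 < S.r), if_neg (by omega : (1 : ℕ) ≠ 0),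
        if_pos rfl, if_neg (by omega : (1 : ℕ) ≠ 0)] at h1
      split_ifs at h1 with q1 q2
      · simp at h1
        exact ha0 (congrArg Subtype.val h1)
      · rw [Nat.mod_eq_of_lt (by omega)] at q2; omega
      · simp at h1
        exact ha0 (congrArg Subtype.val h1)
    · have h1 := hk n hn
      rw [Nat.mod_eq_of_lt hn, if_pos rfl] at h1
      have e1 : n ≠ (1 + n) % S.r := by
        rcases Nat.lt_or_ge (1 + n) S.r with h | h
        · rw [Nat.mod_eq_of_lt h]; omega
        · rw [show 1 + n = S.r by omega, Nat.mod_self]; omega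
      rw [if_neg e1, Nat.zero_mod, if_neg hn0] at h1
      split_ifs at h1 with q1 q2
      · simp at h1
        exact hb0 h1
      · rcases Nat.lt_or_ge (2 + n) S.r with h | h
        · rw [Nat.mod_eq_of_lt h] at q2; omega
        · rw [Nat.mod_eq_sub_mod h, Nat.mod_eq_of_lt (by omega)] at q2; omega
      · simp at h1
        exact hb0 h1

end Split

end Cfsg.Agent.Lib.BaseSize.Pauli
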