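/-
The case where only scalars act on the fixed space.
-/
import Cfsg.Agent.Lib.BaseSize.Pauli.Step

set_option autoImplicit false
set_option linter.unusedSectionVars false

namespace Cfsg.Agent.Lib.BaseSize.Pauli

universe u v

variable {K : Type u} [Field K] {V : Type v} [AddCommGroup V] [Module K V]

/-- Fixing a nonzero vector and its multiple by a generator fixes all scalars. -/
theorem Heis.scal_comm_of_gen (H : Heis K V) [Finite V] [Nontrivial V] {p : ℕ}
    {Γ : Subgroup (Aut V)} (hΓ : H.Acts p Γ) {γ : Aut V} (hγ : γ ∈ Γ) {θ : Kˣ}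
    (hθ : ∀ c : Kˣ, c ∈ Subgroup.zpowers θ) {u : V} (hu : u ≠ 0) (h1 : γ u = u)
    (h2 : γ ((θ : K) • u) = (θ : K) • u) (c : Kˣ) : γ * scal c = scal c * γ := by
  obtain ⟨d, hd⟩ := H.conj_scal (hΓ.norm γ hγ) θ
  have h3 := LinearEquiv.congr_fun hd u
  rw [conj_apply_fix h1, scal_apply, h2, scal_apply] at h3
  have hdθ : d = θ := Units.ext (smul_left_injective K hu h3.symm)
  rw [hdθ, mul_inv_eq_iff_eq_mul] at hd
  obtain ⟨n, rfl⟩ := Subgroup.mem_zpowers_iff.mp (hθ c)
  rw [map_zpow]
  exact (Commute.zpow_right (show Commute γ (scal θ) from hd) n).eq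

namespace Split

variable {H : Heis K V} (S : Split H) [Finite V] [Nontrivial V]
  {p : ℕ} {Γ : Subgroup (Aut V)}

theorem hW_of_flat (hS : S.Flat) {γ : Aut V} (hst : γ ∈ S.stab)
    (hσ : ∀ c : Kˣ, γ * scal c = scal c * γ) : ∀ c ∈ S.C, ∀ u ∈ S.W, γ (c u) = c (γ u) := by
  intro c hc u hu
  obtain ⟨d, hd⟩ := hS c hc
  rw [hd u hu, hd _ ((hst u).mp hu)]
  exact LinearEquiv.congr_fun (hσ d) u

theorem flat_decomp (hS : S.Flat) {c : Aut V} (hc : c ∈ S.C) :
    ∃ (d : Kˣ) (i : ℕ), i < S.r ∧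
      ∀ (a : ℕ), ∀ u ∈ S.wt a, c u = ((d : K) * ((S.ζ : K) ^ i) ^ a) • u := by
  obtain ⟨d, hd⟩ := hS c hc
  have hc' : scal d⁻¹ * c ∈ S.C :=
    mul_mem (S.mem_C.mpr ⟨H.scal_mem _, (H.scal_comm S.hl _).symm⟩) hc
  obtain ⟨i, hi, h⟩ := S.eq_pow_of_fix hc' fun u hu => by
    rw [LinearEquiv.mul_apply, hd u hu, scal_apply, smul_smul, ← Units.val_mul, inv_mul_cancel,
      Units.val_one, one_smul]
  refine ⟨d, i, hi, fun a u hu => ?_⟩
  rw [map_inv, inv_mul_eq_iff_eq_mul] at h
  rw [h, LinearEquiv.mul_apply, S.pow_l_apply hu, scal_apply, smul_smul, ← pow_mul, ← pow_mul,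
    mul_comm a i]

theorem smul_eq {u : V} (hu : u ≠ 0) {a b : K} (h : a • u = b • u) : a = b :=
  smul_left_injective K hu h

variable [Finite K]

/-- A good pair for `r` odd. -/
theorem good_flat_odd (hS : S.Flat) (hr2 : S.r ≠ 2) (h2 : (2 : K) ≠ 0) :
    ∃ u₁ u₂ : V, ∀ (Γ : Subgroup (Aut V)), H.Acts p Γ → H.Good Γ u₁ u₂ := by
  obtain ⟨θ, hθ⟩ := IsCyclic.exists_generator (α := Kˣ)
  obtain ⟨e, he, hem⟩ : ∃ e : K, e * e = 1 ∧ (S.m : K) ≠ e := by
    by_cases hm : (S.m : K) = 1
    · refine ⟨-1, by ring, fun h => h2 ?_⟩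
      rw [hm] at h
      linear_combination h
    · exact ⟨1, one_mul 1, hm⟩
  have he0 : e ≠ 0 := fun h => by simp [h] at he
  have hθ0 := θ.ne_zero
  have hm0 := S.m.ne_zero
  have hr : 3 ≤ S.r := by
    have := S.hr.two_le
    omega
  have hyy := S.yy_wt S.v_mem
  have hy := S.y_wt S.v_mem
  have hv1 := S.y_ne S.hv
  have hv2 := S.y_ne hv1
  set w := (θ : K) • S.v + S.y S.v + e • S.y (S.y S.v) with hw
  have hp : ∀ (x : Aut V) (q0 q1 q2 : ℕ), x S.v ∈ S.wt q0 → x (S.y S.v) ∈ S.wt q1 →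
      x (S.y (S.y S.v)) ∈ S.wt q2 → (∀ (t : K) (u : V), ∃ t' : K, x (t • u) = t' • x u) →
      ∀ j < S.r, S.proj j (x w) = (if j = q0 % S.r then x ((θ : K) • S.v) else 0) +
        (if j = q1 % S.r then x (S.y S.v) else 0) +
        (if j = q2 % S.r then x (e • S.y (S.y S.v)) else 0) := by
    intro x q0 q1 q2 a0 a1 a2 hl j hj
    have b0 : x ((θ : K) • S.v) ∈ S.wt q0 := by
      obtain ⟨t, ht⟩ := hl (θ : K) S.v
      rw [ht]; exact Submodule.smul_mem _ _ a0
    have b2 : x (e • S.y (S.y S.v)) ∈ S.wt q2 := by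
      obtain ⟨t, ht⟩ := hl e (S.y (S.y S.v))
      rw [ht]; exact Submodule.smul_mem _ _ a2
    rw [hw, map_add, map_add, S.proj_add, S.proj_add, S.proj_wt hj b0, S.proj_wt hj a1,
      S.proj_wt hj b2]
  have hpw : ∀ j < S.r, S.proj j w = (if j = 0 then (θ : K) • S.v else 0) +
      (if j = 1 then S.y S.v else 0) + (if j = 2 then e • S.y (S.y S.v) else 0) := by
    intro j hj
    rw [hw, S.proj_add, S.proj_add, S.proj_wt hj (Submodule.smul_mem _ _ S.v_mem), S.proj_wt hj hy,
      S.proj_wt hj (Submodule.smul_mem _ _ hyy), Nat.zero_mod, Nat.one_mod_eq_one.mpr S.hr.ne_one,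
      Nat.mod_eq_of_lt (show 2 < S.r by omega)]
  have hθv : (θ : K) • S.v ≠ 0 := smul_ne_zero hθ0 S.hv
  have hw0 : w ≠ 0 := by
    intro h
    have h1 := hpw 0 S.hr.pos
    rw [h, S.proj_of_mem S.hr.pos S.hr.pos (Submodule.zero_mem _)] at h1
    simp [S.hv] at h1
    exact hθv h1.symm
  refine ⟨w, S.v, fun Γ hΓ => ⟨⟨⟨hw0, fun x hx hxw => ?_⟩, Heis.Pins.symm fun γ hγ hfv hfw => ?_⟩,
    S.hv, fun x hx hxw => ?_⟩⟩
  · -- the lifted vector is fixed only trivially
    obtain ⟨n, c, hn, hc, rfl⟩ := S.decomp hx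
    obtain ⟨d, i, hi, hcd⟩ := S.flat_decomp hS hc
    have hl : ∀ (t : K) (u : V), ∃ t' : K, (S.y ^ n * c) (t • u) = t' • (S.y ^ n * c) u :=
      fun t u => ⟨t, H.lin _ hx t u⟩
    have hk : ∀ j < S.r, _ := fun j hj => (hp _ n (1 + n) (2 + n)
      (by simpa using S.mul_wt hc S.v_mem n) (S.mul_wt hc hy n) (S.mul_wt hc hyy n) hl j hj).symm.trans
      ((congrArg (S.proj j) hxw).trans (hpw j hj))
    set z := (S.ζ : K) ^ i with hz
    have c0 : (S.y ^ n * c) ((θ : K) • S.v) = ((θ : K) * d) • (S.y ^ n) S.v := by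
      rw [H.lin _ hx, LinearEquiv.mul_apply, hcd 0 _ S.v_mem, pow_zero, mul_one,
        H.lin _ (pow_mem S.hy n), smul_smul]
    have c1 : (S.y ^ n * c) (S.y S.v) = ((d : K) * z) • (S.y ^ n) (S.y S.v) := by
      rw [LinearEquiv.mul_apply, hcd 1 _ hy, pow_one, H.lin _ (pow_mem S.hy n)]
    have c2 : (S.y ^ n * c) (e • S.y (S.y S.v)) =
        (e * ((d : K) * z ^ 2)) • (S.y ^ n) (S.y (S.y S.v)) := by
      rw [H.lin _ hx, LinearEquiv.mul_apply, hcd 2 _ hyy, H.lin _ (pow_mem S.hy n), smul_smul]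
    rw [c0, c1, c2] at hk
    by_cases hn0 : n = 0
    · subst hn0
      have h0 := hk 0 S.hr.pos
      have h1 := hk 1 (by omega)
      rw [Nat.zero_mod, Nat.mod_eq_of_lt (show 1 + 0 < S.r by omega),
        Nat.mod_eq_of_lt (show 2 + 0 < S.r by omega)] at h0 h1
      simp at h0 h1
      have e0 : (θ : K) * d = (θ : K) := smul_eq (V := V) S.hv h0
      have e1 : (d : K) * z = 1 := smul_eq (V := V) hv1 (by rw [h1, one_smul])
      have hd1 : (d : K) = 1 := by
        refine mul_left_cancel₀ hθ0 ?_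
        rw [e0, mul_one]
      rw [hd1, one_mul] at e1
      have hi0 : i = 0 := by
        by_contra h
        exact S.prim.pow_ne_one_of_pos_of_lt h hi (hz ▸ e1)
      subst hi0
      refine S.ext_wt fun j hj u hu => ?_
      show (S.y ^ 0 * c) u = u
      rw [pow_zero, one_mul, hcd j u hu, hz, hd1, pow_zero, one_pow, one_mul, one_smul]
    exfalso
    have e1' : n ≠ (1 + n) % S.r := by
      rcases Nat.lt_or_ge (1 + n) S.r with h | h
      · rw [Nat.mod_eq_of_lt h]; omega
      · rw [show 1 + n = S.r by omega, Nat.mod_self]; omega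
    have e2' : n ≠ (2 + n) % S.r := by
      rcases Nat.lt_or_ge (2 + n) S.r with h | h
      · rw [Nat.mod_eq_of_lt h]; omega
      · rw [Nat.mod_eq_sub_mod h, Nat.mod_eq_of_lt (by omega)]; omega
    have hn' := hk n hn
    rw [Nat.mod_eq_of_lt hn, if_pos rfl, if_neg e1', if_neg e2', add_zero, add_zero, if_neg hn0,
      zero_add] at hn'
    have hyn : (S.y ^ n) S.v ≠ 0 :=
      fun h => S.hv ((S.y ^ n).injective (h.trans (map_zero _).symm))
    have hm3 : S.r = 3 → ∀ u, S.y (S.y (S.y u)) = (S.m : K) • u := by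
      intro h u
      have h' := LinearEquiv.congr_fun S.hym u
      rw [h, pow_three] at h'
      exact h'
    have hz3 : z ^ S.r = 1 := by rw [hz, ← pow_mul, mul_comm, pow_mul, S.prim.pow_eq_one, one_pow]
    rcases (show n = 1 ∨ n = 2 ∨ 3 ≤ n by omega) with rfl | rfl | hn3
    · rw [if_pos rfl, if_neg (show (1 : ℕ) ≠ 2 by omega), add_zero, pow_one] at hn'
      have f0 : (θ : K) * d = 1 := smul_eq (V := V) hv1 (by rw [hn', one_smul])
      have g2 := hk 2 (by omega)
      rw [Nat.mod_eq_of_lt hn, Nat.mod_eq_of_lt (show 1 + 1 < S.r by omega), pow_one] at g2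
      by_cases hr3 : S.r = 3
      · rw [hr3] at g2 hz3
        simp at g2
        have f1 : (d : K) * z = e := smul_eq (V := V) hv2 g2
        have g0 := hk 0 S.hr.pos
        rw [hr3, pow_one, hm3 hr3] at g0
        simp [smul_smul] at g0
        have f2 : e * ((d : K) * z ^ 2) * (S.m : K) = (θ : K) := smul_eq (V := V) S.hv g0
        refine hem ?_
        linear_combination e * (d : K) * f2 + e * f0 - (S.m : K) * ((d : K) * z) ^ 2 * he -
          (S.m : K) * ((d : K) * z + e) * f1 - (S.m : K) * he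
      · have g3 := hk 3 (by omega)
        rw [Nat.mod_eq_of_lt hn, Nat.mod_eq_of_lt (show 1 + 1 < S.r by omega),
          Nat.mod_eq_of_lt (show 2 + 1 < S.r by omega), pow_one] at g3
        simp [he0, d.ne_zero, hz] at g3
        exact S.y_ne hv2 (by simpa using g3)
    · rw [if_neg (show (2 : ℕ) ≠ 1 by omega), if_pos rfl, zero_add, pow_two,
        LinearEquiv.mul_apply] at hn'
      have f0 : (θ : K) * d = e := smul_eq (V := V) hv2 hn'
      by_cases hr3 : S.r = 3
      · rw [hr3] at hz3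
        have g0 := hk 0 S.hr.pos
        have g1 := hk 1 (by omega)
        rw [hr3, pow_two, LinearEquiv.mul_apply, LinearEquiv.mul_apply, LinearEquiv.mul_apply,
          hm3 hr3] at g0 g1
        simp [H.lin S.y S.hy, hm3 hr3, smul_smul] at g0 g1
        have f1 : (d : K) * z * (S.m : K) = (θ : K) := smul_eq (V := V) S.hv g0
        have f2 : e * ((d : K) * z ^ 2) * (S.m : K) = 1 := smul_eq (V := V) hv1 (by rw [g1, one_smul])
        have k1 : e * z * (θ : K) = 1 := by linear_combination f2 - e * z * f1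
        have k2 : (θ : K) ^ 3 = e := by
          linear_combination (-((θ : K) ^ 3) * (e * e + 1)) * he + e * ((e * z * (θ : K)) ^ 2 +
            e * z * (θ : K) + 1) * k1 - e ^ 4 * (θ : K) ^ 3 * hz3
        refine hem ?_
        linear_combination ((θ : K) * (θ : K)) * f1 - (S.m : K) * z * (θ : K) * f0 -
          (S.m : K) * k1 + k2
      · have g3 := hk 3 (by omega)
        rw [Nat.mod_eq_of_lt hn, Nat.mod_eq_of_lt (show 1 + 2 < S.r by omega)] at g3
        have h4 : (2 + 2) % S.r ≠ 3 := by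
          rcases Nat.lt_or_ge 4 S.r with h | h
          · rw [Nat.mod_eq_of_lt h]; omega
          · have : S.r = 4 := by omega
            exact absurd (this ▸ S.hr) (by norm_num)
        rw [if_neg (Ne.symm h4)] at g3
        simp [d.ne_zero, hz] at g3
        exact S.hv g3
    · rw [if_neg (show n ≠ 1 by omega), if_neg (show n ≠ 2 by omega), add_zero, smul_eq_zero] at hn'
      exact hn'.elim (mul_ne_zero hθ0 d.ne_zero) hyn
  · -- pinning
    have hR := S.reg_of_flat hS S.v_mem S.hv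
    obtain ⟨k, hk, hwt⟩ := S.weights hΓ hγ hR hfv
    have hst := S.mem_stab_of_fix hΓ hγ hR hfv
    have hlt : k % S.r < S.r := Nat.mod_lt _ S.hr.pos
    have hk' : k % S.r ≠ 0 := fun h => hk (Nat.dvd_of_mod_eq_zero h)
    have hk2' : k * 2 % S.r ≠ 0 := by
      intro h
      rcases S.hr.dvd_mul.mp (Nat.dvd_of_mod_eq_zero h) with h' | h'
      · exact hk h'
      · exact hr2 ((Nat.prime_dvd_prime_iff_eq S.hr Nat.prime_two).mp h')
    have hkne : k * 2 % S.r ≠ k % S.r := by
      intro h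
      have e' : (k + k) % S.r = k % S.r := by rw [← two_mul, mul_comm, h]
      have := Nat.sub_mod_eq_zero_of_mod_eq e'
      rw [Nat.add_sub_cancel] at this
      exact hk (Nat.dvd_of_mod_eq_zero this)
    have hl : ∀ (t : K) (u : V), ∃ t' : K, γ (t • u) = t' • γ u := by
      intro t u
      by_cases ht : t = 0
      · exact ⟨0, by simp [ht]⟩
      · obtain ⟨t', ht'⟩ := H.conj_scal (hΓ.norm γ hγ) (Units.mk0 t ht)
        refine ⟨(t' : K), ?_⟩
        have h' := LinearEquiv.congr_fun ht' (γ u)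
        simp only [LinearEquiv.mul_apply, scal_apply, Units.val_mk0] at h'
        rw [← h']
        exact congrArg (fun q => γ (t • q)) (γ.symm_apply_apply u).symm
    have hk3 : ∀ j < S.r, _ := fun j hj => (hp γ (k * 0) (k * 1) (k * 2) (hwt 0 _ S.v_mem)
      (hwt 1 _ hy) (hwt 2 _ hyy) hl j hj).symm.trans ((congrArg (S.proj j) hfw).trans (hpw j hj))
    rw [Nat.mul_zero, Nat.zero_mod, Nat.mul_one] at hk3
    have h0 := hk3 0 S.hr.pos
    rw [if_neg (Ne.symm hk'), if_neg (Ne.symm hk2')] at h0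
    simp at h0
    have hσ := H.scal_comm_of_gen hΓ hγ hθ S.hv hfv h0
    have hlin : ∀ (t : K) (u : V), γ (t • u) = t • γ u := by
      intro t u
      by_cases ht : t = 0
      · simp [ht]
      · exact LinearEquiv.congr_fun (hσ (Units.mk0 t ht)) u
    have h1 := hk3 _ hlt
    rw [if_neg hk', if_pos rfl, if_neg (Ne.symm hkne), if_neg hk', zero_add, zero_add, add_zero] at h1
    have hne1 : γ (S.y S.v) ≠ 0 := fun h => hv1 (γ.injective (h.trans (map_zero γ).symm))
    have hne2 : γ (e • S.y (S.y S.v)) ≠ 0 :=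
      fun h => (smul_ne_zero he0 hv2) (γ.injective (h.trans (map_zero γ).symm))
    refine S.commutes_of hΓ hγ hR hfv (S.hW_of_flat hS hst hσ) ?_
    have h2k : k * 2 % S.r = k % S.r * 2 % S.r := by rw [Nat.mod_mul_mod]
    by_cases hk1 : k % S.r = 1
    · have hk2 : k * 2 % S.r = 2 := by rw [h2k, hk1, Nat.mod_eq_of_lt (by omega)]
      have h' := hk3 2 (by omega)
      rw [hk2, hk1] at h'
      rw [hk1] at h1
      simp at h1 h'
      rw [hlin] at h'
      exact S.y_comm_sq hΓ hγ hR hfv h1 S.v_mem S.hv hfv ((smul_right_injective V he0) h')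
    exfalso
    rw [if_neg hk1, zero_add] at h1
    by_cases hk2 : k % S.r = 2
    · rw [if_pos hk2] at h1
      by_cases hr3 : S.r = 3
      · have h' := hk3 1 (by omega)
        rw [h2k, hk2, hr3] at h'
        simp at h'
        have hm3 : ∀ u, S.y (S.y (S.y u)) = (S.m : K) • u := by
          intro u
          have h'' := LinearEquiv.congr_fun S.hym u
          rw [hr3, pow_three] at h''
          exact h''
        set g := γ * S.y * γ⁻¹ with hg
        have hgB : g ∈ H.B := hΓ.norm γ hγ _ S.hy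
        have gv : g S.v = e • S.y (S.y S.v) := by rw [hg, conj_apply_fix hfv, h1]
        obtain ⟨i, hi, hgi⟩ := S.eq_pow_of_W S.v_mem S.hv (hR.2.2)
          (mul_mem (H.scal_mem (Units.mk0 e he0)⁻¹) (mul_mem (inv_mem (mul_mem S.hy S.hy)) hgB))
          (by
            have h5 : (S.y * S.y)⁻¹ (e • S.y (S.y S.v)) = e • S.v := by
              rw [H.lin _ (inv_mem (mul_mem S.hy S.hy))]
              exact congrArg _ ((S.y * S.y).symm_apply_apply S.v)
            rw [LinearEquiv.mul_apply, LinearEquiv.mul_apply, gv, h5, scal_apply, smul_smul,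
              Units.val_inv_eq_inv_val, Units.val_mk0, inv_mul_cancel₀ he0, one_smul])
        rw [map_inv, inv_mul_eq_iff_eq_mul, inv_mul_eq_iff_eq_mul] at hgi
        set z := (S.ζ : K) ^ i with hz
        have gy : g (S.y S.v) = (e * z * S.m) • S.v := by
          rw [hgi]
          show (S.y * S.y) ((scal (Units.mk0 e he0) : Aut V) ((S.l ^ i) (S.y S.v))) = _
          rw [S.pow_l_apply hy, pow_one, scal_apply, smul_smul, H.lin _ (mul_mem S.hy S.hy),
            LinearEquiv.mul_apply, hm3, smul_smul, Units.val_mk0]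
        have gy' : g (S.y S.v) = (e * S.m) • S.v := by
          have a1 : γ⁻¹ (S.y S.v) = e • S.y (S.y S.v) := by
            conv_lhs => rw [← h']
            exact γ.symm_apply_apply _
          rw [hg, LinearEquiv.mul_apply, LinearEquiv.mul_apply, a1, H.lin S.y S.hy, hm3, smul_smul,
            hlin, hfv]
        have hz1 : z = 1 := by
          have := smul_eq (V := V) S.hv (gy.symm.trans gy')
          refine mul_left_cancel₀ (mul_ne_zero he0 hm0) ?_
          rw [mul_one]
          linear_combination this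
        have gyy : g (S.y (S.y S.v)) = (e * S.m) • S.y S.v := by
          rw [hgi]
          show (S.y * S.y) ((scal (Units.mk0 e he0) : Aut V) ((S.l ^ i) (S.y (S.y S.v)))) = _
          rw [S.pow_l_apply hyy, scal_apply, smul_smul, H.lin _ (mul_mem S.hy S.hy),
            LinearEquiv.mul_apply, hm3, smul_smul, Units.val_mk0, ← pow_mul,
            mul_comm 2 i, pow_mul, ← hz, hz1, one_pow, mul_one]
        have gyy' : g (S.y (S.y S.v)) = S.y S.v := by
          have a2 : γ⁻¹ (S.y (S.y S.v)) = e • S.y S.v := by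
            have : γ (e • S.y S.v) = S.y (S.y S.v) := by rw [hlin, h1, smul_smul, he, one_smul]
            rw [← this]; exact γ.symm_apply_apply _
          rw [hg, LinearEquiv.mul_apply, LinearEquiv.mul_apply, a2, H.lin S.y S.hy, h']
        have := smul_eq (V := V) hv1 (gyy.symm.trans (gyy'.trans (one_smul K _).symm))
        refine hem ?_
        linear_combination e * this - (S.m : K) * he
      · have hlt2 : k * 2 % S.r < S.r := Nat.mod_lt _ S.hr.pos
        have h' := hk3 _ hlt2
        have h4 : k * 2 % S.r = 4 % S.r := by rw [h2k, hk2]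
        have h4' : k * 2 % S.r ≠ 1 := by
          intro h
          rw [h4] at h
          rcases Nat.lt_or_ge 4 S.r with q | q
          · rw [Nat.mod_eq_of_lt q] at h; omega
          · exact absurd ((show S.r = 4 by omega) ▸ S.hr) (by norm_num)
        rw [if_neg hk2', if_pos rfl, if_neg hkne, if_neg hk2', if_neg h4',
          if_neg (show k * 2 % S.r ≠ 2 from hk2 ▸ hkne)] at h'
        simp at h'
        exact h'.elim he0 S.hv
    · rw [if_neg hk2] at h1
      exact hne1 h1
  · -- the orbit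
    obtain ⟨n, c, hn, hc, rfl⟩ := S.decomp hx
    have hl : ∀ (t : K) (u : V), ∃ t' : K, (S.y ^ n * c) (t • u) = t' • (S.y ^ n * c) u :=
      fun t u => ⟨t, H.lin _ hx t u⟩
    have hk : ∀ j < S.r, _ := fun j hj => (hp _ n (1 + n) (2 + n)
      (by simpa using S.mul_wt hc S.v_mem n) (S.mul_wt hc hy n) (S.mul_wt hc hyy n) hl j hj).symm.trans
      ((congrArg (S.proj j) hxw).trans (S.proj_wt hj S.v_mem))
    rw [Nat.zero_mod] at hk
    have hne : ∀ (a : V), a ≠ 0 → (S.y ^ n * c) a ≠ 0 :=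
      fun a ha h => ha ((S.y ^ n * c).injective (h.trans (map_zero _).symm))
    by_cases hn0 : n = 0
    · subst hn0
      have h1 := hk 1 (by omega)
      rw [Nat.zero_mod, Nat.mod_eq_of_lt (show 1 + 0 < S.r by omega),
        Nat.mod_eq_of_lt (show 2 + 0 < S.r by omega)] at h1
      simp at h1
      exact S.hv h1
    · have h1 := hk n hn
      have e1 : n ≠ (1 + n) % S.r := by
        rcases Nat.lt_or_ge (1 + n) S.r with h | h
        · rw [Nat.mod_eq_of_lt h]; omega
        · rw [show 1 + n = S.r by omega, Nat.mod_self]; omega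
      have e2 : n ≠ (2 + n) % S.r := by
        rcases Nat.lt_or_ge (2 + n) S.r with h | h
        · rw [Nat.mod_eq_of_lt h]; omega
        · rw [Nat.mod_eq_sub_mod h, Nat.mod_eq_of_lt (by omega)]; omega
      rw [Nat.mod_eq_of_lt hn, if_pos rfl, if_neg e1, if_neg e2, add_zero, add_zero, if_neg hn0] at h1
      exact hne _ hθv h1

end Split

end Cfsg.Agent.Lib.BaseSize.Pauli
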