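/-
The case where only scalars act on the fixed space, for an involution.
-/
import Cfsg.Agent.Lib.BaseSize.Pauli.Base

set_option autoImplicit false
set_option linter.unusedSectionVars false

namespace Cfsg.Agent.Lib.BaseSize.Pauli

universe u v

variable {K : Type u} [Field K] {V : Type v} [AddCommGroup V] [Module K V]

/-- Over a prime field every automorphism commutes with the scalars. -/
theorem scal_comm_of_prime [Finite K] {q : ℕ} (hq : q.Prime) (hK : Nat.card K = q) (γ : Aut V)
    (c : Kˣ) : γ * scal c = scal c * γ := by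
  haveI : Fintype K := Fintype.ofFinite K
  haveI : Fact q.Prime := ⟨hq⟩
  have e := ZMod.ringEquivOfPrime K hq (by rw [← Nat.card_eq_fintype_card, hK])
  obtain ⟨n, hn⟩ : ∃ n : ℕ, (c : K) = (n : K) := by
    refine ⟨(e.symm (c : K)).val, ?_⟩
    rw [← map_natCast e, ZMod.natCast_val, ZMod.cast_id', id, RingEquiv.apply_symm_apply]
  refine LinearEquiv.ext fun u => ?_
  rw [LinearEquiv.mul_apply, LinearEquiv.mul_apply, scal_apply, scal_apply, hn,
    Nat.cast_smul_eq_nsmul, Nat.cast_smul_eq_nsmul, map_nsmul]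

namespace Split

variable {H : Heis K V} (S : Split H) [Finite V] [Nontrivial V] [Finite K]
  {p : ℕ} {Γ : Subgroup (Aut V)}

theorem zeta_two (hr : S.r = 2) : (S.ζ : K) = -1 :=
  (hr ▸ S.prim : IsPrimitiveRoot (S.ζ : K) 2).eq_neg_one_of_two_right

theorem y_y (hr : S.r = 2) (u : V) : S.y (S.y u) = (S.m : K) • u := by
  have h := LinearEquiv.congr_fun S.hym u
  rw [hr, pow_two] at h
  exact h

/-- A pinning pair for an involution over a prime field. -/
theorem pins_flat_two (hS : S.Flat) (hr : S.r = 2) {q : ℕ} (hq : q.Prime) (hK : Nat.card K = q)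
    (hΓ : H.Acts p Γ) : H.Pins Γ S.v (S.y S.v) := by
  intro γ hγ hfv hfy
  have hR := S.reg_of_flat hS S.v_mem S.hv
  have hσ : ∀ c : Kˣ, γ * scal c = scal c * γ := scal_comm_of_prime hq hK γ
  have hst := S.mem_stab_of_fix hΓ hγ hR hfv
  exact S.commutes_of hΓ hγ hR hfv (S.hW_of_flat hS hst hσ)
    (S.y_comm_two hΓ hγ hR hfv hfy hr hσ)

/-- A good pair for an involution. -/
theorem good_flat_two (hS : S.Flat) (hr : S.r = 2) (c : Kˣ) (hc : (c : K) ^ 2 * S.m ≠ 1)
    (hc' : (c : K) ^ 2 * S.m ≠ -1) :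
    ∃ u₁ u₂ : V, ∀ (Γ : Subgroup (Aut V)), H.Acts p Γ → H.Good Γ u₁ u₂ := by
  obtain ⟨θ, hθ⟩ := IsCyclic.exists_generator (α := Kˣ)
  have hy := S.y_wt S.v_mem
  have hv1 := S.y_ne S.hv
  have hθv : (θ : K) • S.v ≠ 0 := smul_ne_zero θ.ne_zero S.hv
  have hcy : (c : K) • S.y S.v ≠ 0 := smul_ne_zero c.ne_zero hv1
  set w := S.v + (c : K) • S.y S.v with hw
  have hpw : ∀ j < S.r, S.proj j w =
      (if j = 0 then S.v else 0) + if j = 1 then (c : K) • S.y S.v else 0 := by
    intro j hj
    rw [hw, S.proj_add, S.proj_wt hj S.v_mem, S.proj_wt hj (Submodule.smul_mem _ _ hy), Nat.zero_mod,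
      Nat.one_mod_eq_one.mpr S.hr.ne_one]
  have hw0 : w ≠ 0 := by
    intro h
    have h1 := hpw 0 S.hr.pos
    rw [h, S.proj_of_mem S.hr.pos S.hr.pos (Submodule.zero_mem _)] at h1
    simp at h1
    exact S.hv h1.symm
  have himg : ∀ (n : ℕ) (b : Aut V), b ∈ S.C → ∀ j < S.r, S.proj j ((S.y ^ n * b) w) =
      (if j = n % S.r then (S.y ^ n * b) S.v else 0) +
        if j = (1 + n) % S.r then (S.y ^ n * b) ((c : K) • S.y S.v) else 0 := by
    intro n b hb j hj
    rw [hw, map_add, S.proj_add, S.proj_wt hj (S.mul_wt hb S.v_mem n),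
      S.proj_wt hj (S.mul_wt hb (Submodule.smul_mem _ _ hy) n), zero_add]
  refine ⟨w, (θ : K) • S.v, fun Γ hΓ => ⟨⟨⟨hw0, fun x hx hxw => ?_⟩, fun γ hγ hfw hfv => ?_⟩, hθv,
    fun x hx hxw => ?_⟩⟩
  · obtain ⟨n, b, hn, hb, rfl⟩ := S.decomp hx
    obtain ⟨d, i, hi, hbd⟩ := S.flat_decomp hS hb
    have hk : ∀ j < S.r, _ := fun j hj => (himg n b hb j hj).symm.trans
      ((congrArg (S.proj j) hxw).trans (hpw j hj))
    have b0 : b S.v = (d : K) • S.v := by
      rw [hbd 0 _ S.v_mem, pow_zero, mul_one]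
    have b1 : b (S.y S.v) = ((d : K) * (S.ζ : K) ^ i) • S.y S.v := by rw [hbd 1 _ hy, pow_one]
    have h0 := hk 0 S.hr.pos
    have h1 := hk 1 S.hr.one_lt
    have hbB := (S.mem_C.mp hb).1
    rw [hr] at h0 h1 hn hi
    interval_cases n
    · simp [b0, b1, H.lin b hbB, smul_smul] at h0 h1
      have e0 : (d : K) = 1 := smul_eq (V := V) S.hv (by rw [h0, one_smul])
      have e1 := smul_eq (V := V) hv1 h1
      rw [e0, one_mul] at e1
      have hz : (S.ζ : K) ^ i = 1 := mul_left_cancel₀ c.ne_zero (by rw [e1, mul_one])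
      refine S.ext_wt fun j hj u hu => ?_
      show (S.y ^ 0 * b) u = u
      rw [pow_zero, one_mul, hbd j u hu, hz, e0, one_pow, one_mul, one_smul]
    · exfalso
      simp [b0, b1, H.lin b hbB, H.lin S.y S.hy, S.y_y hr, smul_smul] at h0 h1
      have e1 : (d : K) = (c : K) := smul_eq (V := V) hv1 h1
      have e0 : (c : K) * ((d : K) * (S.ζ : K) ^ i) * (S.m : K) = 1 :=
        smul_eq (V := V) S.hv (by rw [h0, one_smul])
      rw [e1] at e0
      interval_cases i
      · exact hc (by linear_combination e0)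
      · rw [S.zeta_two hr] at e0
        exact hc' (by linear_combination -e0)
  · have hR := S.reg_of_flat hS (Submodule.smul_mem _ _ S.v_mem) hθv
    obtain ⟨k, hk, hwt⟩ := S.weights hΓ hγ hR hfv
    have hst := S.mem_stab_of_fix hΓ hγ hR hfv
    have hk1 : k % S.r = 1 := by
      have := Nat.mod_lt k S.hr.pos
      have := fun h => hk (Nat.dvd_of_mod_eq_zero h)
      omega
    have g0 : γ S.v ∈ S.wt 0 := (hst _).mp S.v_mem
    have g1 : γ ((c : K) • S.y S.v) ∈ S.wt k := by
      simpa using hwt 1 _ (Submodule.smul_mem _ _ hy)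
    have hk3 : ∀ j < S.r, (if j = 0 then γ S.v else 0) +
        (if j = 1 then γ ((c : K) • S.y S.v) else 0) =
        (if j = 0 then S.v else 0) + if j = 1 then (c : K) • S.y S.v else 0 := by
      intro j hj
      rw [← hpw j hj]
      conv_rhs => rw [← hfw, hw]
      rw [map_add, S.proj_add, S.proj_wt hj g0, S.proj_wt hj g1, Nat.zero_mod, hk1]
    have hv' : γ S.v = S.v := by simpa using hk3 0 S.hr.pos
    have hy' : γ ((c : K) • S.y S.v) = (c : K) • S.y S.v := by simpa using hk3 1 S.hr.one_lt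
    have hσ := H.scal_comm_of_gen hΓ hγ hθ S.hv hv' hfv
    have hy'' : γ (S.y S.v) = S.y S.v := by
      have h := LinearEquiv.congr_fun (hσ c) (S.y S.v)
      rw [LinearEquiv.mul_apply, LinearEquiv.mul_apply, scal_apply, scal_apply, hy'] at h
      exact (smul_right_injective V c.ne_zero h).symm
    have hR' := S.reg_of_flat hS S.v_mem S.hv
    exact S.commutes_of hΓ hγ hR' hv' (S.hW_of_flat hS hst hσ)
      (S.y_comm_two hΓ hγ hR' hv' hy'' hr hσ)
  · obtain ⟨n, b, hn, hb, rfl⟩ := S.decomp hx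
    have hk : ∀ j < S.r, _ := fun j hj => (himg n b hb j hj).symm.trans
      ((congrArg (S.proj j) hxw).trans (S.proj_wt hj (Submodule.smul_mem _ (θ : K) S.v_mem)))
    rw [Nat.zero_mod] at hk
    have h1 := hk 1 S.hr.one_lt
    rw [hr] at h1 hn
    interval_cases n
    · simp at h1
      exact S.hv h1
    · simp at h1
      exact S.hv h1

/-- Otherwise the field has three or five elements and the square can be normalised. -/
theorem flat_normal (hS : S.Flat) (hr : S.r = 2) (h2 : (2 : K) ≠ 0)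
    (h : ∀ c : Kˣ, (c : K) ^ 2 * S.m = 1 ∨ (c : K) ^ 2 * S.m = -1) :
    (Nat.card K = 3 ∨ Nat.card K = 5) ∧ ∃ T : Split H, T.r = 2 ∧ T.m = 1 ∧ T.Flat := by
  obtain ⟨θ, hθ⟩ := IsCyclic.exists_generator (α := Kˣ)
  have hm : (S.m : K) = 1 ∨ (S.m : K) = -1 := by simpa using h 1
  constructor
  · haveI : Fintype K := Fintype.ofFinite K
    have h4 : θ ^ 4 = 1 := by
      refine Units.ext ?_
      rw [Units.val_pow_eq_pow_val, Units.val_one]
      rcases h θ with a | a <;> rcases hm with b | b <;> rw [b] at a <;>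
        first
          | linear_combination ((θ : K) ^ 2 + 1) * a
          | linear_combination ((θ : K) ^ 2 - 1) * a
          | linear_combination -((θ : K) ^ 2 + 1) * a
          | linear_combination -((θ : K) ^ 2 - 1) * a
    have ho : Nat.card Kˣ ∣ 4 := orderOf_eq_card_of_forall_mem_zpowers hθ ▸ orderOf_dvd_of_pow_eq_one h4
    rw [Nat.card_units] at ho
    have hq : 2 < Nat.card K := by
      rw [Nat.card_eq_fintype_card]
      have h1 := Fintype.one_lt_card (α := K)
      by_contra hle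
      have h0 := FiniteField.cast_card_eq_zero K
      rw [show Fintype.card K = 2 by omega] at h0
      exact h2 (by exact_mod_cast h0)
    have hle := Nat.le_of_dvd (by norm_num) ho
    generalize Nat.card K = n at ho hle hq ⊢
    have h5 : n ≤ 5 := by omega
    interval_cases n <;> first | omega | norm_num at ho
  · rcases hm with hm | hm
    · exact ⟨S, hr, Units.ext hm, hS⟩
    · have hyl : (S.y * S.l) ^ S.r = scal (1 : Kˣ) := by
        have hyy : S.y * S.y = scal S.m := by rw [← sq, ← hr, S.hym]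
        have hll : S.l * S.l = 1 := by rw [← sq, ← hr, S.hlr]
        rw [hr, sq, mul_assoc, ← mul_assoc S.l S.y, S.hly, mul_assoc (scal S.ζ), mul_assoc S.y S.l,
          hll, mul_one, H.mul_scal S.hy, hyy, ← map_mul]
        refine congrArg _ (Units.ext ?_)
        rw [Units.val_mul, S.zeta_two hr, hm, Units.val_one]
        ring
      have hly' : S.l * (S.y * S.l) = scal S.ζ * (S.y * S.l * S.l) := by
        rw [← mul_assoc, S.hly]
        simp only [mul_assoc]
      exact ⟨⟨S.l, S.y * S.l, S.r, S.ζ, 1, S.v, S.hr, S.hl, mul_mem S.hy S.hl, S.hlr, hyl, S.hζ,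
        hly', S.hv, S.hlv⟩, hr, rfl, hS⟩

end Split

end Cfsg.Agent.Lib.BaseSize.Pauli
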