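/-
Certificates for pairs of vectors in explicit models. Tables are packed eight bits to an entry.
-/
import Mathlib

set_option autoImplicit false

namespace Cfsg.Agent.Lib.BaseSize.Pauli.Cert

/-- An entry of a packed table. -/
def get8 (T i : ℕ) : ℕ := (T >>> (8 * i)) % 256

/-- Packing. -/
def pack : List ℕ → ℕ
  | [] => 0
  | a :: l => a % 256 + 256 * pack l

/-- Duplicate freeness. -/
def nodupB : List ℕ → Bool
  | [] => true
  | a :: l => !l.contains a && nodupB l

/-- An explicit model: prime, dimension, generators by columns, the scalars in their squares and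
commutators, and the tables of left multiplication. -/
structure Mdl where
  p : ℕ
  d : ℕ
  gs : List (List (List ℕ))
  sq : List ℕ
  cm : List (List ℕ)
  T : List ℕ
  M : List ℕ

/-- A coefficient, an index, and which vector. -/
abbrev Rel := List (ℕ × ℕ × Bool)

/-- What happens to an automorphism fixing a pair. -/
inductive Verdict where
  | trivial
  | three (h l j : ℕ)
  | child (c j : ℕ)

/-- A node of the tree. -/
structure Node where
  u₁ : List ℕ
  u₂ : List ℕ
  I₁ : ℕ
  I₂ : ℕ
  R : List (List Rel)
  L : List (List ℕ)
  ch : List ℕ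
  vs : List Verdict

namespace Mdl

variable (P : Mdl)

/-- A coordinate of a linear combination. -/
def coord (l : List (ℕ × List ℕ)) (i : ℕ) : ℕ := (l.map fun cv => cv.1 * cv.2.getD i 0).sum % P.p

/-- A linear combination. -/
def comb (l : List (ℕ × List ℕ)) : List ℕ := (List.range P.d).map fun i => P.coord l i

/-- A matrix times a vector. -/
def mv (g : List (List ℕ)) (v : List ℕ) : List ℕ :=
  P.comb ((List.range P.d).map fun j => (v.getD j 0, g.getD j []))

/-- A unit vector. -/
def unit (j : ℕ) : List ℕ := (List.range P.d).map fun i => if i = j then 1 else 0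

/-- The number of scalars. -/
def nz : ℕ := P.p - 1

/-- The number of generators. -/
def k : ℕ := P.gs.length

/-- The length of a level. -/
def len (i : ℕ) : ℕ := P.nz * 2 ^ i

/-- The order of the group. -/
def size : ℕ := P.len P.k

/-- The generator. -/
def gen (i : ℕ) : List (List ℕ) := P.gs.getD i []

/-- Left multiplication by a scalar, on indices. -/
def sidx (s h : ℕ) : ℕ := h - h % P.nz + ((s + 1) * (h % P.nz + 1) % P.p - 1)

/-- The product of two indices. -/
def prod (a b : ℕ) : ℕ := get8 (P.M.getD (a / 16) 0) (a % 16 * P.size + b)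

/-- The vector at an index of a packed orbit. -/
def vec (I h : ℕ) : List ℕ := (List.range P.d).map fun j => get8 I (8 * h + j)

/-- The code of a vector of a packed orbit. -/
def code (I h : ℕ) : ℕ := pack (P.vec I h)

/-- The generators square and commute as claimed. -/
def genOk : Bool :=
  decide (2 ≤ P.p) && decide (P.p ≤ 16) && decide (P.d ≤ 8) && decide (P.size ≤ 256) &&
  (List.range P.k).all fun i => (List.range P.d).all fun b =>
    (P.mv (P.gen i) (P.mv (P.gen i) (P.unit b)) == P.comb [(P.sq.getD i 0 + 1, P.unit b)]) &&
    (decide (P.sq.getD i 0 < P.nz)) &&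
    (List.range P.k).all fun j =>
      decide (j ≤ i) ||
      (decide ((P.cm.getD i []).getD j 0 < P.nz) &&
        (P.mv (P.gen i) (P.mv (P.gen j) (P.unit b)) ==
          P.comb [((P.cm.getD i []).getD j 0 + 1, P.mv (P.gen j) (P.mv (P.gen i) (P.unit b)))]))

/-- The table of a generator follows from the relations. -/
def tableOk (i : ℕ) : Bool :=
  let t := P.T.getD i 0
  ((List.range (P.len i)).all fun h =>
    get8 t h == P.len i + h && get8 t (P.len i + h) == P.sidx (P.sq.getD i 0) h) &&
  (List.range P.k).all fun j =>
    decide (j ≤ i) || (List.range (P.len j)).all fun h =>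
      decide (get8 t h < P.len j) &&
        get8 t (P.len j + h) == P.sidx ((P.cm.getD i []).getD j 0) (P.len j + get8 t h)

/-- The scalar rows of the multiplication. -/
def rowsBase : Bool :=
  (List.range P.nz).all fun s => (List.range P.size).all fun b => P.prod s b == P.sidx s b

/-- The rows of one level. -/
def rowsOk (i : ℕ) : Bool :=
  (List.range (P.len i)).all fun h => (List.range P.size).all fun b =>
    decide (P.prod h b < P.size) && P.prod (P.len i + h) b == get8 (P.T.getD i 0) (P.prod h b)

/-- A packed orbit is the orbit. -/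
def orbitOk (I : ℕ) (u : List ℕ) : Bool :=
  ((List.range P.nz).all fun s => P.vec I s == P.comb [(s + 1, u)]) &&
  (List.range P.k).all fun i => (List.range (P.len i)).all fun h =>
    P.vec I (P.len i + h) == P.mv (P.gen i) (P.vec I h)

/-- The image table of a candidate. -/
def ext (i t y h : ℕ) : ℕ := if h < P.len i then get8 t h else P.prod y (get8 t (h - P.len i))

/-- The products with the generators so far are respected. -/
def okProd (i t y : ℕ) : Bool :=
  (List.range (i + 1)).reverse.all fun j =>
    let z := P.prod (P.len j) (P.len i)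
    decide (P.len (i + 1) ≤ z) || P.ext i t y z == P.prod (P.ext i t y (P.len j)) y

/-- A relation evaluated through a table. -/
def evZero (N : Node) (f : ℕ → ℕ) (r : Rel) : Bool :=
  (List.range P.d).all fun j =>
    (r.map fun x => x.1 * get8 (bif x.2.2 then N.I₂ else N.I₁) (8 * f x.2.1 + j)).sum % P.p == 0

/-- The survivors over one table. -/
def survivors (N : Node) (i t : ℕ) : List ℕ :=
  ((List.range P.size).filter fun y => P.okProd i t y &&
    ((N.R.getD i []).all fun r => P.evZero N (P.ext i t y) r) &&
    (List.range (P.len i)).all fun h => get8 t h != y).map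
    fun y => pack ((List.range (P.len (i + 1))).map (P.ext i t y))

/-- The base table. -/
def base : ℕ := pack (List.range P.nz)

/-- One level of a node. -/
def levelOk (N : Node) (i : ℕ) : Bool :=
  ((N.L.getD i []).flatMap fun t => P.survivors N i t) == N.L.getD (i + 1) []

/-- The identity table. -/
def one : ℕ := pack (List.range P.size)

/-- Composition of tables. -/
def mul (a b : ℕ) : ℕ := pack ((List.range P.size).map fun x => get8 a (get8 b x))

/-- Powers of tables. -/
def powT (a : ℕ) : ℕ → ℕ
  | 0 => P.one
  | n + 1 => P.mul a (powT a n)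

/-- The vectors of a node. -/
def nodeOk (N : Node) : Bool :=
  P.comb [(1, N.u₁)] == N.u₁ && P.comb [(1, N.u₂)] == N.u₂ &&
  P.orbitOk N.I₁ N.u₁ && P.orbitOk N.I₂ N.u₂ &&
  nodupB ((List.range P.size).map (P.code N.I₁)) &&
  ((List.range P.size).all fun h => P.code N.I₁ h != pack N.u₂) &&
  N.u₂ != List.replicate P.d 0 && N.u₁ != List.replicate P.d 0 &&
  N.L.getD 0 [] == [P.base] &&
  (List.range P.k).all fun i => (N.R.getD i []).all fun r =>
    r.all (fun x => decide (x.2.1 < P.len (i + 1))) && P.evZero N (fun h => h) r

/-- A verdict holds. -/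
def verdictOk (ns : List Node) (idx : ℕ) (N : Node) (t : ℕ) : Verdict → Bool
  | .trivial => t == P.one
  | .three h l j => P.p == 3 &&
      let a := P.powT (P.mul ((P.one :: N.ch).getD h P.one) (P.powT t l)) j
      a != P.one && P.powT a 3 == P.one
  | .child c j => decide (idx < c) &&
      match ns[c]? with
      | some C => C.ch == P.powT t j :: N.ch
      | none => false

/-- The verdicts of a node. -/
def verdictsOk (ns : List Node) (idx : ℕ) (N : Node) : Bool :=
  decide ((N.L.getD P.k []).length = N.vs.length) &&
  ((N.L.getD P.k []).zip N.vs).all fun tv => P.verdictOk ns idx N tv.1 tv.2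

/-- The model is consistent. -/
structure Valid : Prop where
  gen : P.genOk = true
  table : ∀ i < P.k, P.tableOk i = true
  rowsB : P.rowsBase = true
  rows : ∀ i < P.k, P.rowsOk i = true

/-- The tree is checked. -/
structure TreeValid (ns : List Node) : Prop where
  root : ∃ N, ns[0]? = some N ∧ N.ch = []
  node : ∀ (idx : ℕ) (N : Node), ns[idx]? = some N →
    P.nodeOk N = true ∧ (∀ i < P.k, P.levelOk N i = true) ∧ P.verdictsOk ns idx N = true

end Mdl

end Cfsg.Agent.Lib.BaseSize.Pauli.Cert
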