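/-
A model realised inside an operator group.
-/
import Cfsg.Agent.Lib.BaseSize.Pauli.Cert
import Cfsg.Agent.Lib.BaseSize.Pauli.BaseTwo

set_option autoImplicit false
set_option linter.unusedSectionVars false

open Finset

namespace Cfsg.Agent.Lib.BaseSize.Pauli.Cert

universe u v

theorem pack_nil : pack [] = 0 := rfl

theorem get8_pack : ∀ (l : List ℕ), (∀ x ∈ l, x < 256) → ∀ i < l.length, get8 (pack l) i = l.getD i 0
  | [], _, i, hi => absurd hi (by simp)
  | a :: l, h, 0, _ => by
    have ha := h a (by simp)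
    simp only [get8, pack, Nat.mul_zero, Nat.shiftRight_zero, List.getD_cons_zero]
    omega
  | a :: l, h, i + 1, hi => by
    have ih := get8_pack l (fun x hx => h x (List.mem_cons_of_mem _ hx)) i (by simpa using hi)
    simp only [get8, pack, List.getD_cons_succ] at ih ⊢
    rw [← ih, Nat.shiftRight_eq_div_pow, Nat.shiftRight_eq_div_pow, show 8 * (i + 1) = 8 + 8 * i by ring,
      pow_add, ← Nat.div_div_eq_div_mul, show (2 : ℕ) ^ 8 = 256 by norm_num]
    congr 2
    have ha : a % 256 < 256 := Nat.mod_lt _ (by norm_num)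
    omega

theorem get8_pack_range {n : ℕ} (f : ℕ → ℕ) (hf : ∀ x < n, f x < 256) {i : ℕ} (hi : i < n) :
    get8 (pack ((List.range n).map f)) i = f i := by
  rw [get8_pack _ (by simpa using hf) i (by simpa using hi)]
  simp [List.getD_eq_getElem?_getD, List.getElem?_map, List.getElem?_range hi]

theorem nodupB_iff {l : List ℕ} (h : nodupB l = true) : l.Nodup := by
  induction l with
  | nil => simp
  | cons a l ih =>
    simp only [nodupB, Bool.and_eq_true, Bool.not_eq_true', List.contains_eq_mem,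
      decide_eq_false_iff_not] at h
    exact List.nodup_cons.mpr ⟨h.1, ih h.2⟩

variable {K : Type u} [Field K] {V : Type v} [AddCommGroup V] [Module K V]

/-- A realisation of a model. -/
structure Frame (P : Mdl) (H : Heis K V) where
  e : ℕ → V
  g : ℕ → Aut V
  indep : ∀ c : ℕ → K, ∑ j ∈ range P.d, c j • e j = 0 → ∀ j < P.d, c j = 0
  pos : 0 < P.d
  gmem : ∀ i < P.k, g i ∈ H.B
  mat : ∀ i < P.k, ∀ b < P.d,
    g i (e b) = ∑ j ∈ range P.d, (((P.gen i).getD b []).getD j 0 : K) • e j
  closure : H.B ≤ Subgroup.closure (Set.range (scal (K := K) (V := V)) ∪ g '' {i | i < P.k})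
  prime : P.p.Prime
  cardK : Nat.card K = P.p
  valid : P.Valid

namespace Frame

variable {P : Mdl} {H : Heis K V} (F : Frame P H)

/-- The vector of a list of coordinates. -/
def val (v : List ℕ) : V := ∑ j ∈ range P.d, (v.getD j 0 : K) • F.e j

/-- Coordinates in normal form. -/
def Norm (P : Mdl) (v : List ℕ) : Prop := ∃ l, v = P.comb l

theorem charP [Finite K] (F : Frame P H) : CharP K P.p :=
  haveI := Fact.mk F.prime
  haveI : Fintype K := Fintype.ofFinite K
  charP_of_card_eq_prime (by rw [← Nat.card_eq_fintype_card, F.cardK])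

variable [Finite K] [Finite V] [Nontrivial V]

theorem cast_mod (F : Frame P H) (n : ℕ) : ((n % P.p : ℕ) : K) = (n : K) := by
  haveI := F.charP
  rw [CharP.natCast_eq_natCast K P.p]
  exact Nat.mod_modEq n P.p

theorem comb_getD (l : List (ℕ × List ℕ)) {j : ℕ} (hj : j < P.d) :
    (P.comb l).getD j 0 = P.coord l j := by
  simp [Mdl.comb, List.getD_eq_getElem?_getD, List.getElem?_map, List.getElem?_range hj]

theorem val_comb (l : List (ℕ × List ℕ)) :
    F.val (P.comb l) = (l.map fun cv => (cv.1 : K) • F.val cv.2).sum := by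
  have h1 : F.val (P.comb l) =
      ∑ j ∈ range P.d, (((l.map fun cv => cv.1 * cv.2.getD j 0).sum : ℕ) : K) • F.e j :=
    sum_congr rfl fun j hj => by
      rw [comb_getD l (mem_range.mp hj), Mdl.coord, F.cast_mod]
  rw [h1]
  clear h1
  induction l with
  | nil => simp
  | cons a l ih =>
    simp only [List.map_cons, List.sum_cons, Nat.cast_add, Nat.cast_mul, add_smul, sum_add_distrib, ih,
      mul_smul, val, smul_sum]

theorem val_unit {b : ℕ} (hb : b < P.d) : F.val (P.unit b) = F.e b := by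
  rw [val, sum_eq_single b]
  · simp [Mdl.unit, List.getD_eq_getElem?_getD, List.getElem?_map, List.getElem?_range hb]
  · intro j hj hjb
    simp [Mdl.unit, List.getD_eq_getElem?_getD, List.getElem?_map, List.getElem?_range (mem_range.mp hj),
      hjb]
  · exact fun h => absurd (mem_range.mpr hb) h

theorem list_sum_range (f : ℕ → V) (n : ℕ) : ((List.range n).map f).sum = ∑ j ∈ range n, f j := by
  induction n with
  | zero => simp
  | succ n ih => rw [List.range_succ, List.map_append, List.sum_append, sum_range_succ, ih]; simp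

theorem gen_val {i : ℕ} (hi : i < P.k) (v : List ℕ) :
    F.g i (F.val v) = F.val (P.mv (P.gen i) v) := by
  rw [Mdl.mv, F.val_comb, List.map_map, list_sum_range, val, map_sum]
  refine sum_congr rfl fun b hb => ?_
  rw [H.lin _ (F.gmem i hi), F.mat i hi b (mem_range.mp hb)]
  rfl

theorem val_inj {v w : List ℕ} (hv : Norm P v) (hw : Norm P w) (h : F.val v = F.val w) : v = w := by
  obtain ⟨l, rfl⟩ := hv
  obtain ⟨l', rfl⟩ := hw
  haveI := F.charP
  refine List.map_congr_left fun j hj => ?_
  have h0 : ∑ i ∈ range P.d, (((P.comb l).getD i 0 : K) - ((P.comb l').getD i 0 : K)) • F.e i = 0 := by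
    simp only [sub_smul, sum_sub_distrib]
    exact sub_eq_zero.mpr h
  have h1 := sub_eq_zero.mp (F.indep _ h0 j (List.mem_range.mp hj))
  rw [CharP.natCast_eq_natCast K P.p, comb_getD l (List.mem_range.mp hj),
    comb_getD l' (List.mem_range.mp hj), Nat.ModEq, Mdl.coord, Mdl.coord, Nat.mod_mod, Nat.mod_mod] at h1
  exact h1

theorem e_ne_zero : F.e 0 ≠ 0 := by
  intro h
  have := F.indep (fun j => if j = 0 then 1 else 0) (by
    refine sum_eq_zero fun j _ => ?_
    split_ifs with hj
    · rw [hj, h, smul_zero]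
    · rw [zero_smul]) 0 F.pos
  simp at this

/-- The space of the frame. -/
def U : Submodule K V := Submodule.span K (F.e '' {j | j < P.d})

theorem val_mem (v : List ℕ) : F.val v ∈ F.U :=
  Submodule.sum_mem _ fun j hj =>
    Submodule.smul_mem _ _ (Submodule.subset_span ⟨j, mem_range.mp hj, rfl⟩)

theorem mem_U {x : Aut V} (hx : x ∈ H.B) : ∀ u ∈ F.U, x u ∈ F.U := by
  refine Subgroup.closure_induction
    (p := fun y _ => ∀ u ∈ F.U, y u ∈ F.U) ?_ (fun u hu => hu)
    (fun a b _ _ ha hb u hu => ha _ (hb u hu)) ?_ (F.closure hx)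
  · rintro y (⟨c, rfl⟩ | ⟨i, hi, rfl⟩) u hu
    · exact Submodule.smul_mem _ _ hu
    · induction hu using Submodule.span_induction with
      | mem z hz =>
        obtain ⟨b, hb, rfl⟩ := hz
        rw [F.mat i hi b hb]
        exact F.val_mem _
      | zero => rw [map_zero]; exact zero_mem _
      | add a b _ _ ha hb => rw [map_add]; exact add_mem ha hb
      | smul c a _ ha => rw [H.lin _ (F.gmem i hi)]; exact Submodule.smul_mem _ _ ha
  · intro a _ ha u hu
    obtain ⟨⟨w, hw⟩, hwu⟩ := Finite.surjective_of_injective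
      (f := fun z : F.U => (⟨a z, ha _ z.2⟩ : F.U))
      (fun z z' h => Subtype.ext (a.injective (congrArg Subtype.val h))) ⟨u, hu⟩
    have hwu' : a w = u := congrArg Subtype.val hwu
    rw [← hwu', show a⁻¹ (a w) = w from a.symm_apply_apply w]
    exact hw

theorem eq_of_basis {x y : Aut V} (hx : x ∈ H.B) (hy : y ∈ H.B)
    (h : ∀ b < P.d, x (F.e b) = y (F.e b)) : x = y := by
  suffices hone : y⁻¹ * x = 1 from (inv_mul_eq_one.mp hone).symm
  have hB := mul_mem (inv_mem hy) hx
  have hfix : ∀ u ∈ F.U, (y⁻¹ * x) u = u := by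
    intro u hu
    induction hu using Submodule.span_induction with
    | mem z hz =>
      obtain ⟨b, hb, rfl⟩ := hz
      rw [LinearEquiv.mul_apply, h b hb]
      exact y.symm_apply_apply _
    | zero => rw [map_zero]
    | add a b _ _ ha hb => rw [map_add, ha, hb]
    | smul c a _ ha => rw [H.lin _ hB, ha]
  exact H.eq_one_of_fix_orbit hB F.e_ne_zero fun z hz =>
    hfix _ (F.mem_U hz _ (Submodule.subset_span ⟨0, F.pos, rfl⟩))

theorem nz_pos (F : Frame P H) : 0 < P.nz := by
  have := F.prime.two_le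
  unfold Mdl.nz
  omega

theorem len_succ (i : ℕ) : P.len (i + 1) = P.len i + P.len i := by
  rw [Mdl.len, Mdl.len, pow_succ]; ring

theorem len_le {i j : ℕ} (h : i ≤ j) : P.len i ≤ P.len j :=
  Nat.mul_le_mul_left _ (Nat.pow_le_pow_right (by norm_num) h)

theorem len_le_size {i : ℕ} (h : i ≤ P.k) : P.len i ≤ P.size := len_le h

theorem size_le (F : Frame P H) : P.size ≤ 256 := by
  have h := F.valid.gen
  simp only [Mdl.genOk, Bool.and_eq_true, decide_eq_true_eq] at h
  exact h.1.2

open scoped Classical in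
/-- The scalar with an index. -/
noncomputable def sig (_ : Frame P H) (s : ℕ) : Aut V :=
  if h : ((s + 1 : ℕ) : K) = 0 then 1 else scal (Units.mk0 _ h)

theorem cast_ne_zero (F : Frame P H) {s : ℕ} (hs : s < P.nz) : ((s + 1 : ℕ) : K) ≠ 0 := by
  haveI := F.charP
  rw [Ne, CharP.cast_eq_zero_iff K P.p]
  intro h
  have := Nat.le_of_dvd (by omega) h
  unfold Mdl.nz at hs
  omega

theorem sig_apply {s : ℕ} (hs : s < P.nz) (u : V) : F.sig s u = ((s + 1 : ℕ) : K) • u := by
  rw [sig, dif_neg (F.cast_ne_zero hs), scal_apply, Units.val_mk0]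

theorem sig_mem (s : ℕ) : F.sig s ∈ H.B := by
  rw [sig]
  split_ifs
  · exact one_mem _
  · exact H.scal_mem _

theorem sig_zero : F.sig 0 = 1 :=
  LinearEquiv.ext fun u => by rw [F.sig_apply F.nz_pos]; simp

theorem exists_sig (c : Kˣ) : ∃ s < P.nz, (scal c : Aut V) = F.sig s := by
  haveI : Fintype K := Fintype.ofFinite K
  haveI : Fact P.p.Prime := ⟨F.prime⟩
  have e := ZMod.ringEquivOfPrime K F.prime (by rw [← Nat.card_eq_fintype_card, F.cardK])
  set n := (e.symm (c : K)).val with hn
  have hnc : (n : K) = (c : K) := by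
    rw [hn, ← map_natCast e, ZMod.natCast_val, ZMod.cast_id', id, RingEquiv.apply_symm_apply]
  have hn0 : n ≠ 0 := fun h => c.ne_zero (by rw [← hnc, h, Nat.cast_zero])
  have hnp : n < P.p := ZMod.val_lt _
  have hs : n - 1 < P.nz := by unfold Mdl.nz; omega
  refine ⟨n - 1, hs, LinearEquiv.ext fun u => ?_⟩
  rw [F.sig_apply hs, show n - 1 + 1 = n by omega, hnc, scal_apply]

theorem sig_comm {x : Aut V} (hx : x ∈ H.B) (s : ℕ) : x * F.sig s = F.sig s * x := by
  rw [sig]
  split_ifs
  · rw [mul_one, one_mul]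
  · exact H.scal_comm hx _

/-- The elements, by levels. -/
noncomputable def El : ℕ → ℕ → Aut V
  | 0, h => F.sig h
  | i + 1, h => if h < P.len i then El i h else F.g i * El i (h - P.len i)

/-- The element of an index. -/
noncomputable def E (h : ℕ) : Aut V := F.El P.k h

theorem El_mono {i j : ℕ} (hij : i ≤ j) {h : ℕ} (hh : h < P.len i) : F.El j h = F.El i h := by
  induction j, hij using Nat.le_induction with
  | base => rfl
  | succ j hj ih => rw [El, if_pos (hh.trans_le (len_le hj)), ih]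

theorem E_eq {i : ℕ} (hi : i ≤ P.k) {h : ℕ} (hh : h < P.len i) : F.E h = F.El i h := F.El_mono hi hh

theorem E_sig {s : ℕ} (hs : s < P.nz) : F.E s = F.sig s := by
  rw [F.E_eq (Nat.zero_le _) (by simpa [Mdl.len] using hs), El]

theorem E_zero : F.E 0 = 1 := by rw [F.E_sig F.nz_pos, F.sig_zero]

theorem E_add {i : ℕ} (hi : i < P.k) {h : ℕ} (hh : h < P.len i) :
    F.E (P.len i + h) = F.g i * F.E h := by
  rw [F.E_eq (i := i + 1) hi (by rw [len_succ]; omega), El, if_neg (by omega), Nat.add_sub_cancel_left,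
    F.E_eq hi.le hh]

theorem E_mem {h : ℕ} (hh : h < P.size) : F.E h ∈ H.B := by
  suffices ∀ i ≤ P.k, ∀ h < P.len i, F.El i h ∈ H.B from this P.k le_rfl h hh
  intro i
  induction i with
  | zero => intro _ h _; exact F.sig_mem h
  | succ i ih =>
    intro hi h hh
    rw [len_succ] at hh
    rw [El]
    split_ifs with hlt
    · exact ih (by omega) h hlt
    · exact mul_mem (F.gmem i (by omega)) (ih (by omega) _ (by omega))

theorem sidx_spec {s : ℕ} (hs : s < P.nz) : ∀ {i : ℕ}, i ≤ P.k → ∀ {h : ℕ}, h < P.len i →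
    P.sidx s h < P.len i ∧ F.sig s * F.E h = F.E (P.sidx s h) := by
  intro i
  induction i with
  | zero =>
    intro _ h hh
    have hh' : h < P.nz := by simpa [Mdl.len] using hh
    set z := (s + 1) * (h + 1) % P.p with hz
    have hz0 : z ≠ 0 := by
      intro h0
      rcases F.prime.dvd_mul.mp (Nat.dvd_of_mod_eq_zero h0) with hd | hd
      · have := Nat.le_of_dvd (by omega) hd
        unfold Mdl.nz at hs; omega
      · have := Nat.le_of_dvd (by omega) hd
        unfold Mdl.nz at hh'; omega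
    have hsidx : P.sidx s h = z - 1 := by rw [Mdl.sidx, Nat.mod_eq_of_lt hh']; omega
    have hzn : z - 1 < P.nz := by
      have := Nat.mod_lt ((s + 1) * (h + 1)) F.prime.pos
      unfold Mdl.nz; omega
    refine ⟨by rw [hsidx]; simpa [Mdl.len] using hzn, ?_⟩
    rw [hsidx, F.E_sig hh', F.E_sig hzn]
    refine LinearEquiv.ext fun u => ?_
    rw [LinearEquiv.mul_apply, F.sig_apply hh', F.sig_apply hs, F.sig_apply hzn,
      show z - 1 + 1 = z by omega, smul_smul, hz, F.cast_mod, Nat.cast_mul]
  | succ i ih =>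
    intro hi h hh
    rw [len_succ] at hh
    by_cases hlt : h < P.len i
    · obtain ⟨h1, h2⟩ := ih (by omega) hlt
      exact ⟨by rw [len_succ]; omega, h2⟩
    · obtain ⟨h', rfl⟩ : ∃ h', h = P.len i + h' := ⟨h - P.len i, by omega⟩
      obtain ⟨h1, h2⟩ := ih (by omega) (show h' < P.len i by omega)
      have hmod : (P.len i + h') % P.nz = h' % P.nz := by
        rw [Mdl.len, Nat.mul_add_mod]
      have hsh : P.sidx s (P.len i + h') = P.len i + P.sidx s h' := by
        have hle := Nat.mod_le h' P.nz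
        simp only [Mdl.sidx, hmod]
        omega
      refine ⟨by rw [hsh, len_succ]; omega, ?_⟩
      rw [hsh, F.E_add (by omega) (by omega), F.E_add (by omega) h1, ← mul_assoc,
        ← F.sig_comm (F.gmem i (by omega)), mul_assoc, h2]

theorem gen_rel {i : ℕ} (hi : i < P.k) :
    (P.sq.getD i 0 < P.nz ∧ F.g i * F.g i = F.sig (P.sq.getD i 0)) ∧
    ∀ j, i < j → j < P.k → (P.cm.getD i []).getD j 0 < P.nz ∧
      F.g i * F.g j = F.sig ((P.cm.getD i []).getD j 0) * (F.g j * F.g i) := by
  have h := F.valid.gen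
  simp only [Mdl.genOk, Bool.and_eq_true, List.all_eq_true, decide_eq_true_eq, List.mem_range,
    beq_iff_eq, Bool.or_eq_true] at h
  have h' := h.2 i hi
  have h0 := h' 0 F.pos
  refine ⟨⟨h0.1.2, F.eq_of_basis (mul_mem (F.gmem i hi) (F.gmem i hi)) (F.sig_mem _) fun b hb => ?_⟩,
    fun j hij hj => ?_⟩
  · rw [LinearEquiv.mul_apply, ← F.val_unit hb, F.gen_val hi, F.gen_val hi, (h' b hb).1.1, F.val_comb,
      F.sig_apply h0.1.2]
    simp
  · have hc := ((h0.2 j hj).resolve_left (by omega)).1
    refine ⟨hc, F.eq_of_basis (mul_mem (F.gmem i hi) (F.gmem j hj))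
      (mul_mem (F.sig_mem _) (mul_mem (F.gmem j hj) (F.gmem i hi))) fun b hb => ?_⟩
    rw [LinearEquiv.mul_apply, LinearEquiv.mul_apply, LinearEquiv.mul_apply, ← F.val_unit hb,
      F.gen_val hj, F.gen_val hi, F.gen_val hi, F.gen_val hj,
      (((h' b hb).2 j hj).resolve_left (by omega)).2, F.val_comb, F.sig_apply hc]
    simp

theorem table_spec {i : ℕ} (hi : i < P.k) : ∀ {j : ℕ}, i < j → j ≤ P.k → ∀ {h : ℕ}, h < P.len j →
    get8 (P.T.getD i 0) h < P.len j ∧ F.g i * F.E h = F.E (get8 (P.T.getD i 0) h) := by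
  have hT := F.valid.table i hi
  simp only [Mdl.tableOk, Bool.and_eq_true, List.all_eq_true, decide_eq_true_eq, List.mem_range,
    beq_iff_eq, Bool.or_eq_true] at hT
  obtain ⟨hlow, hhigh⟩ := hT
  obtain ⟨⟨hsq, hgg⟩, hgc⟩ := F.gen_rel hi
  intro j hij
  induction j, hij using Nat.le_induction with
  | base =>
    intro hk h hh
    rw [len_succ] at hh ⊢
    by_cases hlt : h < P.len i
    · rw [(hlow h hlt).1, F.E_add hi hlt]
      exact ⟨by omega, rfl⟩
    · obtain ⟨h', rfl⟩ : ∃ h', h = P.len i + h' := ⟨h - P.len i, by omega⟩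
      obtain ⟨h1, h2⟩ := F.sidx_spec hsq hi.le (show h' < P.len i by omega)
      rw [(hlow h' (by omega)).2, F.E_add hi (by omega), ← mul_assoc, hgg, h2]
      exact ⟨by omega, rfl⟩
  | succ j hij ih =>
    intro hk h hh
    by_cases hlt : h < P.len j
    · obtain ⟨h1, h2⟩ := ih (by omega) hlt
      exact ⟨h1.trans_le (len_le (by omega)), h2⟩
    · rw [len_succ] at hh
      obtain ⟨h', rfl⟩ : ∃ h', h = P.len j + h' := ⟨h - P.len j, by omega⟩
      have h'lt : h' < P.len j := by omega
      obtain ⟨h1, h2⟩ := ih (by omega) h'lt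
      obtain ⟨hc, hgg'⟩ := hgc j (by omega) (by omega)
      have e := ((hhigh j (by omega)).resolve_left (by omega)) h' h'lt
      obtain ⟨b1, b2⟩ := F.sidx_spec hc (i := j + 1) hk
        (show P.len j + get8 (P.T.getD i 0) h' < P.len (j + 1) by rw [len_succ]; omega)
      rw [e.2]
      refine ⟨b1, ?_⟩
      rw [F.E_add (by omega) h'lt, ← mul_assoc, hgg', mul_assoc, mul_assoc, h2,
        ← F.E_add (by omega) h1, b2]

theorem prod_spec {a b : ℕ} (ha : a < P.size) (hb : b < P.size) :
    P.prod a b < P.size ∧ F.E a * F.E b = F.E (P.prod a b) := by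
  suffices ∀ i ≤ P.k, ∀ a < P.len i, P.prod a b < P.size ∧ F.E a * F.E b = F.E (P.prod a b) from
    this P.k le_rfl a ha
  intro i
  induction i with
  | zero =>
    intro _ a ha
    have ha' : a < P.nz := by simpa [Mdl.len] using ha
    have h := F.valid.rowsB
    simp only [Mdl.rowsBase, List.all_eq_true, List.mem_range, beq_iff_eq] at h
    rw [h a ha' b hb, F.E_sig ha']
    exact F.sidx_spec ha' le_rfl hb
  | succ i ih =>
    intro hi a ha
    by_cases hlt : a < P.len i
    · exact ih (by omega) a hlt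
    · rw [len_succ] at ha
      obtain ⟨a', rfl⟩ : ∃ a', a = P.len i + a' := ⟨a - P.len i, by omega⟩
      obtain ⟨h1, h2⟩ := ih (by omega) a' (by omega)
      have h := F.valid.rows i (by omega)
      simp only [Mdl.rowsOk, List.all_eq_true, List.mem_range, beq_iff_eq, Bool.and_eq_true] at h
      rw [(h a' (by omega) b hb).2, F.E_add (by omega) (by omega), mul_assoc, h2]
      exact F.table_spec (by omega) (j := P.k) (by omega) le_rfl h1

theorem E_surj {x : Aut V} (hx : x ∈ H.B) : ∃ h < P.size, x = F.E h := by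
  let T : Set (Aut V) := {y | ∃ h < P.size, y = F.E h}
  have hgen : ∀ a ∈ Set.range (scal (K := K) (V := V)) ∪ F.g '' {i | i < P.k},
      ∀ y ∈ T, a * y ∈ T := by
    rintro a (⟨c, rfl⟩ | ⟨i, hi, rfl⟩) _ ⟨h, hh, rfl⟩
    · obtain ⟨s, hs, hc⟩ := F.exists_sig c
      obtain ⟨b1, b2⟩ := F.sidx_spec hs le_rfl hh
      exact ⟨_, b1, hc ▸ b2⟩
    · obtain ⟨b1, b2⟩ := F.table_spec (hi : i < P.k) (j := P.k) hi le_rfl hh
      exact ⟨_, b1, b2⟩
  have hT : T.Finite := Set.toFinite _
  refine Subgroup.closure_induction_left (p := fun y _ => y ∈ T) ?_ ?_ ?_ (F.closure hx)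
  · exact ⟨0, (Nat.mul_pos F.nz_pos (by positivity) : 0 < P.size), F.E_zero.symm⟩
  · exact fun a ha y _ hy => hgen a ha y hy
  · intro a ha y _ hy
    haveI : Finite T := hT.to_subtype
    obtain ⟨⟨z, hz⟩, hzy⟩ := Finite.surjective_of_injective
      (f := fun w : T => (⟨a * w, hgen a ha _ w.2⟩ : T))
      (fun w w' h => Subtype.ext (mul_left_cancel (congrArg Subtype.val h))) ⟨y, hy⟩
    have hzy' : a * z = y := congrArg Subtype.val hzy
    rw [← hzy', inv_mul_cancel_left]
    exact hz

theorem orbit_spec {I : ℕ} {u : List ℕ} (hI : P.orbitOk I u = true) {h : ℕ} (hh : h < P.size) :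
    Norm P (P.vec I h) ∧ F.E h (F.val u) = F.val (P.vec I h) := by
  simp only [Mdl.orbitOk, Bool.and_eq_true, List.all_eq_true, List.mem_range, beq_iff_eq] at hI
  suffices ∀ i ≤ P.k, ∀ h < P.len i, Norm P (P.vec I h) ∧ F.E h (F.val u) = F.val (P.vec I h) from
    this P.k le_rfl h hh
  intro i
  induction i with
  | zero =>
    intro _ h hh
    have hh' : h < P.nz := by simpa [Mdl.len] using hh
    refine ⟨⟨_, hI.1 h hh'⟩, ?_⟩
    rw [hI.1 h hh', F.val_comb, F.E_sig hh', F.sig_apply hh']
    simp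
  | succ i ih =>
    intro hi h hh
    by_cases hlt : h < P.len i
    · exact ih (by omega) h hlt
    · rw [len_succ] at hh
      obtain ⟨h', rfl⟩ : ∃ h', h = P.len i + h' := ⟨h - P.len i, by omega⟩
      obtain ⟨-, h2⟩ := ih (by omega) h' (by omega)
      have hv := hI.2 i (show i < P.k by omega) h' (by omega)
      refine ⟨⟨_, hv⟩, ?_⟩
      rw [F.E_add (by omega) (by omega), LinearEquiv.mul_apply, h2, F.gen_val (by omega), ← hv]

end Frame

end Cfsg.Agent.Lib.BaseSize.Pauli.Cert
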