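/-
A checked tree gives a good pair.
-/
import Cfsg.Agent.Lib.BaseSize.Pauli.CertFrame

set_option autoImplicit false
set_option linter.unusedSectionVars false

open Finset

namespace Cfsg.Agent.Lib.BaseSize.Pauli.Cert

universe u v

variable {K : Type u} [Field K] {V : Type v} [AddCommGroup V] [Module K V]
  [Finite K] [Finite V] [Nontrivial V]

theorem norm_unit {P : Mdl} {u : List ℕ} (h : P.comb [(1, u)] = u) : Frame.Norm P u :=
  ⟨_, h.symm⟩

theorem norm_zero (P : Mdl) : Frame.Norm P (List.replicate P.d 0) := by
  refine ⟨[], ?_⟩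
  refine List.ext_getElem (by simp [Mdl.comb]) fun n h1 h2 => ?_
  simp [Mdl.comb, Mdl.coord]

namespace Frame

variable {P : Mdl} {H : Heis K V} (F : Frame P H)

theorem val_zero : F.val (List.replicate P.d 0) = 0 := by
  refine sum_eq_zero fun j hj => ?_
  simp [List.getD_eq_getElem?_getD, List.getElem?_replicate, mem_range.mp hj]

theorem code_inj {I a b : ℕ} {u : List ℕ} (hI : P.orbitOk I u = true)
    (hn : nodupB ((List.range P.size).map (P.code I)) = true) (ha : a < P.size) (hb : b < P.size)
    (h : F.E a (F.val u) = F.E b (F.val u)) : a = b := by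
  obtain ⟨na, ea⟩ := F.orbit_spec hI ha
  obtain ⟨nb, eb⟩ := F.orbit_spec hI hb
  rw [ea, eb] at h
  have hc : P.code I a = P.code I b := congrArg pack (F.val_inj na nb h)
  exact List.inj_on_of_nodup_map (nodupB_iff hn) (List.mem_range.mpr ha) (List.mem_range.mpr hb) hc

include F in
/-- A checked tree gives a good pair. -/
theorem sound {Γ : Subgroup (Aut V)} (hΓ : H.Acts P.p Γ) {ns : List Node} (hT : P.TreeValid ns) :
    ∃ u₁ u₂ : V, H.Good Γ u₁ u₂ := by
  classical
  obtain ⟨N₀, hN₀, hch₀⟩ := hT.root
  -- indices are unique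
  have hinj : ∀ a < P.size, ∀ b < P.size, F.E a = F.E b → a = b := by
    intro a ha b hb h
    obtain ⟨hn, -, -⟩ := hT.node 0 N₀ hN₀
    simp only [Mdl.nodeOk, Bool.and_eq_true] at hn
    exact F.code_inj hn.1.1.1.1.1.1.1.2 (by exact hn.1.1.1.1.1.2) ha hb (by rw [h])
  have hex : ∀ (a : Γ) (h : ℕ), ∃ h', h < P.size → h' < P.size ∧
      (a : Aut V) * F.E h * (a : Aut V)⁻¹ = F.E h' := by
    intro a h
    by_cases hh : h < P.size
    · obtain ⟨h', hh', he⟩ := F.E_surj (hΓ.norm a a.2 _ (F.E_mem hh))
      exact ⟨h', fun _ => ⟨hh', he⟩⟩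
    · exact ⟨0, fun h' => absurd h' hh⟩
  choose τ hτ using hex
  have hτlt : ∀ a : Γ, ∀ h < P.size, τ a h < P.size := fun a h hh => (hτ a h hh).1
  have hτ256 : ∀ a : Γ, ∀ h < P.size, τ a h < 256 :=
    fun a h hh => (hτlt a h hh).trans_le F.size_le
  have hE : ∀ a : Γ, ∀ h < P.size, (a : Aut V) * F.E h * (a : Aut V)⁻¹ = F.E (τ a h) :=
    fun a h hh => (hτ a h hh).2
  let tbl : Γ → ℕ := fun a => pack ((List.range P.size).map (τ a))
  have hget : ∀ a : Γ, ∀ h < P.size, get8 (tbl a) h = τ a h :=
    fun a h hh => get8_pack_range _ (hτ256 a) hh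
  have htbl : ∀ a b : Γ, (∀ h < P.size, τ a h = τ b h) → tbl a = tbl b := fun a b h =>
    congrArg pack (List.map_congr_left fun x hx => h x (List.mem_range.mp hx))
  have hone : ∀ a : Γ, tbl a = P.one ↔ ∀ h < P.size, τ a h = h := by
    intro a
    refine ⟨fun e h hh => ?_, fun e => ?_⟩
    · rw [← hget a h hh, e, Mdl.one, get8_pack _ (fun x hx => (List.mem_range.mp hx).trans_le F.size_le)
        h (by simpa using hh)]
      simp [List.getD_eq_getElem?_getD, List.getElem?_range hh]
    · exact congrArg pack ((List.map_congr_left fun x hx => e x (List.mem_range.mp hx)).trans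
        (List.map_id _))
  have h1 : tbl 1 = P.one := (hone 1).mpr fun h hh => by
    refine hinj _ (hτlt 1 h hh) _ hh ?_
    rw [← hE 1 h hh]
    simp
  have hmul : ∀ a b : Γ, tbl (a * b) = P.mul (tbl a) (tbl b) := by
    intro a b
    refine congrArg pack (List.map_congr_left fun x hx => ?_)
    have hx' := List.mem_range.mp hx
    rw [hget b x hx', hget a _ (hτlt b x hx')]
    refine hinj _ (hτlt _ x hx') _ (hτlt a _ (hτlt b x hx')) ?_
    rw [← hE _ x hx', ← hE a _ (hτlt b x hx'), ← hE b x hx', Subgroup.coe_mul]
    group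
  have hpow : ∀ (a : Γ) (n : ℕ), tbl (a ^ n) = P.powT (tbl a) n := by
    intro a n
    induction n with
    | zero => rw [pow_zero, h1]; rfl
    | succ n ih => rw [pow_succ', hmul, ih]; rfl
  suffices ∀ (fuel idx : ℕ), ns.length ≤ fuel + idx → ∀ N, ns[idx]? = some N →
      (∀ g ∈ N.ch, ∃ a : Γ, tbl a = g) → ∃ u₁ u₂ : V, H.Good Γ u₁ u₂ from
    this ns.length 0 (by omega) N₀ hN₀ (by simp [hch₀])
  intro fuel
  induction fuel with
  | zero =>
    intro idx hlen N hN
    rw [List.getElem?_eq_none (by omega)] at hN
    simp at hN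
  | succ fuel ih =>
    intro idx hlen N hN hch
    obtain ⟨hnode, hlev, hverd⟩ := hT.node idx N hN
    simp only [Mdl.nodeOk, Bool.and_eq_true, List.all_eq_true, List.mem_range, beq_iff_eq, bne_iff_ne,
      decide_eq_true_eq] at hnode
    obtain ⟨⟨⟨⟨⟨⟨⟨⟨⟨hu1, hu2⟩, hI1⟩, hI2⟩, hnd⟩, hout⟩, hu20⟩, hu10⟩, hL0⟩, hrels⟩ := hnode
    set w₁ := F.val N.u₁ with hw₁
    set w₂ := F.val N.u₂ with hw₂
    have hfixtriv : ∀ b ∈ H.B, b w₁ = w₁ → b = 1 := by
      intro b hb hbw
      obtain ⟨h, hh, rfl⟩ := F.E_surj hb
      have h0 : h = 0 := by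
        refine F.code_inj hI1 hnd hh (Nat.mul_pos F.nz_pos (by positivity)) ?_
        rw [F.E_zero]
        exact hbw
      rw [h0, F.E_zero]
    have hw10 : w₁ ≠ 0 := fun e =>
      hu10 (F.val_inj (norm_unit hu1) (norm_zero P) (e.trans F.val_zero.symm))
    have hw20 : w₂ ≠ 0 := fun e =>
      hu20 (F.val_inj (norm_unit hu2) (norm_zero P) (e.trans F.val_zero.symm))
    have horb : ∀ b ∈ H.B, b w₁ ≠ w₂ := by
      intro b hb hbw
      obtain ⟨h, hh, rfl⟩ := F.E_surj hb
      obtain ⟨hn, he⟩ := F.orbit_spec hI1 hh
      exact hout h hh (congrArg pack (F.val_inj hn (norm_unit hu2) (he.symm.trans hbw)))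
    by_cases hall : ∀ a : Γ, (a : Aut V) w₁ = w₁ → (a : Aut V) w₂ = w₂ → tbl a = P.one
    · refine ⟨w₁, w₂, ⟨⟨hw10, hfixtriv⟩, fun γ hγ f1 f2 x hx => ?_⟩, hw20, horb⟩
      obtain ⟨h, hh, rfl⟩ := F.E_surj hx
      have e := hE ⟨γ, hγ⟩ h hh
      rw [(hone _).mp (hall ⟨γ, hγ⟩ f1 f2) h hh, mul_inv_eq_iff_eq_mul] at e
      exact e
    push Not at hall
    obtain ⟨a, f1, f2, hne⟩ := hall
    have hEτ : ∀ h < P.size, ∀ u : V, (a : Aut V) u = u → (a : Aut V) (F.E h u) = F.E (τ a h) u := by
      intro h hh u hu
      have e := LinearEquiv.congr_fun (hE a h hh) u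
      rw [conj_apply_fix hu] at e
      exact e
    have hmem : ∀ i ≤ P.k, pack ((List.range (P.len i)).map (τ a)) ∈ N.L.getD i [] := by
      intro i
      induction i with
      | zero =>
        intro _
        rw [hL0, List.mem_singleton]
        have hlen0 : P.len 0 = P.nz := by simp [Mdl.len]
        rw [hlen0, Mdl.base]
        refine congrArg pack ((List.map_congr_left fun s hs => ?_).trans (List.map_id _))
        have hs' := List.mem_range.mp hs
        have hsz : s < P.size := hs'.trans_le (hlen0 ▸ len_le_size (Nat.zero_le _))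
        refine hinj _ (hτlt a s hsz) _ hsz ?_
        rw [← hE a s hsz, F.E_sig hs', Frame.sig, dif_neg (F.cast_ne_zero hs'),
          scal_comm_of_prime F.prime F.cardK, mul_inv_cancel_right, id, F.E_sig hs', Frame.sig,
          dif_neg (F.cast_ne_zero hs')]
      | succ i ihi =>
        intro hi
        have hlv := hlev i (by omega)
        simp only [Mdl.levelOk, beq_iff_eq] at hlv
        rw [← hlv, List.mem_flatMap]
        refine ⟨_, ihi (by omega), ?_⟩
        have hle : P.len (i + 1) ≤ P.size := len_le_size hi
        have hlen2 := Frame.len_succ (P := P) i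
        have hlpos : 0 < P.len i := Nat.mul_pos F.nz_pos (by positivity)
        set t := pack ((List.range (P.len i)).map (τ a)) with ht
        have hgt : ∀ h < P.len i, get8 t h = τ a h := fun h hh =>
          get8_pack_range _ (fun x hx => hτ256 a x (by omega)) hh
        have hgi : F.E (P.len i) = F.g i := by
          have := F.E_add (show i < P.k by omega) hlpos
          rwa [Nat.add_zero, F.E_zero, mul_one] at this
        set y := τ a (P.len i) with hy
        have hext : ∀ h < P.len (i + 1), P.ext i t y h = τ a h := by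
          intro h hh
          rw [Mdl.ext]
          split_ifs with hlt
          · exact hgt h hlt
          · obtain ⟨h', rfl⟩ : ∃ h', h = P.len i + h' := ⟨h - P.len i, by omega⟩
            have h'lt : h' < P.len i := by omega
            rw [Nat.add_sub_cancel_left, hgt h' h'lt]
            have by' := hτlt a (P.len i) (by omega)
            have bh' := hτlt a h' (by omega)
            refine hinj _ (F.prod_spec by' bh').1 _ (hτlt a _ (by omega)) ?_
            rw [← (F.prod_spec by' bh').2, ← hE a _ (by omega), ← hE a _ (by omega), ← hE a _ (by omega),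
              hgi, F.E_add (by omega) h'lt]
            group
        simp only [Mdl.survivors, List.mem_map, List.mem_filter, List.mem_range]
        refine ⟨y, ⟨hτlt a _ (by omega), ?_⟩, congrArg pack (List.map_congr_left fun x hx =>
          hext x (List.mem_range.mp hx))⟩
        simp only [Bool.and_eq_true, List.all_eq_true]
        refine ⟨⟨?_, ?_⟩, ?_⟩
        · simp only [Mdl.okProd, List.all_eq_true, List.mem_reverse, List.mem_range, Bool.or_eq_true,
            decide_eq_true_eq, beq_iff_eq]
          intro j hj
          by_cases hz : P.len (i + 1) ≤ P.prod (P.len j) (P.len i)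
          · exact Or.inl hz
          refine Or.inr ?_
          rw [not_le] at hz
          have hjlt : P.len j < P.len (i + 1) := (len_le (show j ≤ i by omega)).trans_lt (by omega)
          rw [hext _ hz, hext _ hjlt]
          obtain ⟨-, e1⟩ := F.prod_spec (show P.len j < P.size by omega) (show P.len i < P.size by omega)
          have bj := hτlt a (P.len j) (by omega)
          have by' := hτlt a (P.len i) (by omega)
          refine hinj _ (hτlt a _ (by omega)) _ (F.prod_spec bj by').1 ?_
          rw [← (F.prod_spec bj by').2, ← hE a _ (by omega), ← hE a _ (by omega), ← hE a _ (by omega),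
            ← e1]
          group
        · intro r hr
          obtain ⟨hrlt, hr0⟩ := hrels i (by omega) r hr
          let wv : Bool → V := fun b => if b then w₂ else w₁
          let Iv : Bool → ℕ := fun b => bif b then N.I₂ else N.I₁
          have hwfix : ∀ b, (a : Aut V) (wv b) = wv b := fun b => by cases b <;> simp [wv, f1, f2]
          have hwv : ∀ b, ∀ h < P.size, Norm P (P.vec (Iv b) h) ∧ F.E h (wv b) = F.val (P.vec (Iv b) h) := by
            intro b h hh
            cases b
            · exact F.orbit_spec hI1 hh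
            · exact F.orbit_spec hI2 hh
          have hev : ∀ f : ℕ → ℕ, (∀ x ∈ r, f x.2.1 < P.size) → (P.evZero N f r = true ↔
              (r.map fun x => ((x.1 : ℕ) : K) • F.E (f x.2.1) (wv x.2.2)).sum = 0) := by
            intro f hf
            set l := r.map fun x => (x.1, P.vec (Iv x.2.2) (f x.2.1)) with hl
            have hval : (r.map fun x => ((x.1 : ℕ) : K) • F.E (f x.2.1) (wv x.2.2)).sum =
                F.val (P.comb l) := by
              rw [F.val_comb, hl, List.map_map]
              refine congrArg _ (List.map_congr_left fun x hx => ?_)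
              rw [Function.comp_apply, (hwv x.2.2 _ (hf x hx)).2]
            have hco : ∀ j < P.d, P.coord l j =
                (r.map fun x => x.1 * get8 (Iv x.2.2) (8 * f x.2.1 + j)).sum % P.p := by
              intro j hj
              rw [Mdl.coord, hl, List.map_map]
              refine congrArg (· % P.p) (congrArg _ (List.map_congr_left fun x _ => ?_))
              simp [Mdl.vec, List.getD_eq_getElem?_getD, List.getElem?_map, List.getElem?_range hj]
            rw [hval, ← F.val_zero]
            simp only [Mdl.evZero, List.all_eq_true, List.mem_range, beq_iff_eq]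
            refine ⟨fun h => congrArg F.val ?_, fun h j hj => ?_⟩
            · refine List.ext_getElem (by simp [Mdl.comb]) fun n h1 _ => ?_
              have hn : n < P.d := by simpa [Mdl.comb] using h1
              simp only [Mdl.comb, List.getElem_map, List.getElem_range, List.getElem_replicate]
              rw [hco n hn]
              exact h n hn
            · have e := F.val_inj ⟨l, rfl⟩ (norm_zero P) h
              have e' : (P.comb l).getD j 0 = (List.replicate P.d 0).getD j 0 := by rw [e]
              rw [comb_getD l hj, hco j hj] at e'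
              refine e'.trans ?_
              simp [List.getD_eq_getElem?_getD, List.getElem?_replicate, hj]
          have hb : ∀ x ∈ r, x.2.1 < P.len (i + 1) := hrlt
          rw [hev _ fun x hx => by rw [hext _ (hb x hx)]; exact hτlt a _ ((hb x hx).trans_le hle)]
          have h0 := congrArg (a : Aut V) ((hev _ fun x hx => (hb x hx).trans_le hle).mp hr0)
          rw [map_zero, map_list_sum, List.map_map] at h0
          refine Eq.trans (congrArg _ (List.map_congr_left fun x hx => ?_)) h0
          rw [Function.comp_apply, Nat.cast_smul_eq_nsmul, Nat.cast_smul_eq_nsmul, map_nsmul,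
            hEτ _ ((hb x hx).trans_le hle) _ (hwfix _), hext _ (hb x hx)]
        · intro h hh
          have hh' := List.mem_range.mp hh
          rw [bne_iff_ne, hgt h hh']
          intro e
          have h1' := hE a h (by omega)
          rw [e, hy, ← hE a (P.len i) (by omega)] at h1'
          have := hinj h (by omega) _ (by omega) (mul_left_cancel (mul_right_cancel h1'))
          omega
    have hfin := hmem P.k le_rfl
    simp only [Mdl.verdictsOk, Bool.and_eq_true, decide_eq_true_eq, List.all_eq_true] at hverd
    obtain ⟨n, hn, hnv⟩ := List.getElem_of_mem hfin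
    have hzip : ((tbl a, N.vs[n]'(hverd.1 ▸ hn)) : ℕ × Verdict) ∈ (N.L.getD P.k []).zip N.vs := by
      refine List.mem_iff_getElem.mpr ⟨n, by rw [List.length_zip]; omega, ?_⟩
      rw [List.getElem_zip, hnv]
      rfl
    have hv := hverd.2 _ hzip
    rcases hvd : N.vs[n]'(hverd.1 ▸ hn) with _ | ⟨h, l, j⟩ | ⟨c, j⟩ <;>
      rw [hvd] at hv <;> simp only [Mdl.verdictOk, Bool.and_eq_true, beq_iff_eq, bne_iff_ne,
        decide_eq_true_eq] at hv
    · exact absurd hv hne
    · exfalso
      obtain ⟨hp3, hx1, hx3⟩ := hv
      obtain ⟨b, hb⟩ : ∃ b : Γ, tbl b = (P.one :: N.ch).getD h P.one := by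
        by_cases hlt : h < (P.one :: N.ch).length
        · rw [List.getD_eq_getElem _ _ hlt]
          rcases List.mem_cons.mp (List.getElem_mem hlt) with e | e
          · exact ⟨1, h1.trans e.symm⟩
          · exact hch _ e
        · exact ⟨1, by rw [List.getD_eq_default _ _ (not_lt.mp hlt), h1]⟩
      rw [← hb, ← hpow, ← hmul, ← hpow] at hx1 hx3
      rw [← hpow] at hx3
      set x := (b * a ^ l) ^ j with hx
      have h3 : 3 ∣ Nat.card Γ := by
        by_contra hnd
        have hco : Nat.Coprime 3 (orderOf x) := (Nat.Prime.coprime_iff_not_dvd Nat.prime_three).mpr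
          fun h => hnd (h.trans (orderOf_dvd_natCard x))
        obtain ⟨m, hm⟩ := exists_pow_eq_self_of_coprime hco
        refine hx1 ?_
        rw [← hm, hpow, hx3, ← h1, ← hpow, one_pow]
      exact hΓ.reg (hp3 ▸ h3)
    · obtain ⟨hidx, hc⟩ := hv
      split at hc
      · next C hC =>
        rw [beq_iff_eq] at hc
        refine ih c (by omega) C hC fun g hg => ?_
        rw [hc] at hg
        rcases List.mem_cons.mp hg with rfl | hg
        · exact ⟨a ^ j, hpow a j⟩
        · exact hch g hg
      · exact absurd hc (by simp)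

end Frame

end Cfsg.Agent.Lib.BaseSize.Pauli.Cert
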