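/-
Groups in which no nontrivial element fixes a nonzero vector.
-/
import Cfsg.Agent.Lib.BaseSize.Pauli.BaseTwo

set_option autoImplicit false
set_option linter.unusedSectionVars false

open Finset

namespace Cfsg.Agent.Lib.BaseSize.Pauli

universe u v

variable {K : Type u} [Field K] {V : Type v} [AddCommGroup V] [Module K V]

namespace Heis

variable (H : Heis K V)

/-- Only scalars. -/
def Scalars : Prop := ∀ x ∈ H.B, ∃ c : Kˣ, x = scal c

/-- No nontrivial element fixes a nonzero vector. -/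
def Free : Prop := ∀ x ∈ H.B, ∀ v : V, v ≠ 0 → x v = v → x = 1

/-- A quaternion group over the field of three elements. -/
structure MinusOne where
  a : Aut V
  b : Aut V
  v : V
  ha : a ∈ H.B
  hb : b ∈ H.B
  hv : v ≠ 0
  free : H.Free
  card : Nat.card K = 3
  aa : ∀ u, a (a u) = -u
  bb : ∀ u, b (b u) = -u
  ba : ∀ u, b (a u) = -a (b u)
  bv : b v = v + a v
  gen : H.B ≤ Subgroup.closure (Set.range (scal (K := K) (V := V)) ∪ {a, b})

variable [Finite K] [Finite V] [Nontrivial V]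

/-- An element of prime order has an eigenvector. -/
theorem free_pow_one (hf : H.Free) {g : Aut V} (hg : g ∈ H.B) {r : ℕ} (hr : r.Prime) (hgr : g ^ r = 1)
    {d : Kˣ} (hd : orderOf d = r) : ∃ c : Kˣ, g = scal c := by
  have hprim : IsPrimitiveRoot (d : K) r := by
    rw [IsPrimitiveRoot.coe_units_iff, ← hd]
    exact IsPrimitiveRoot.orderOf d
  haveI : NeZero r := ⟨hr.ne_zero⟩
  have hr0 : (r : K) ≠ 0 := (hprim.neZero').out
  obtain ⟨u, hu⟩ := exists_ne (0 : V)
  set h : ℕ → Aut V := fun j => scal (d ^ j) * g with hh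
  have hpow : ∀ j i, ((h j) ^ i) u = (((d : K) ^ i) ^ j) • (g ^ i) u := by
    intro j i
    have hc : Commute (scal (d ^ j) : Aut V) g := (H.scal_comm hg _).symm
    rw [hh, hc.mul_pow, ← map_pow, LinearEquiv.mul_apply, scal_apply, ← pow_mul, ← pow_mul,
      Units.val_pow_eq_pow_val, mul_comm]
  have hsum : ∑ j ∈ range r, ∑ i ∈ range r, ((h j) ^ i) u = (r : K) • u := by
    simp only [hpow]
    rw [sum_comm, sum_eq_single 0]
    · simp [← Nat.cast_smul_eq_nsmul K]
    · intro i hi hi0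
      rw [← sum_smul, geom_sum_eq (hprim.pow_ne_one_of_pos_of_lt hi0 (mem_range.mp hi)), ← pow_mul,
        mul_comm, pow_mul, hprim.pow_eq_one, one_pow, sub_self, zero_div, zero_smul]
    · exact fun h => absurd (mem_range.mpr hr.pos) h
  obtain ⟨j, -, hne⟩ : ∃ j ∈ range r, ∑ i ∈ range r, ((h j) ^ i) u ≠ 0 := by
    by_contra hall
    push Not at hall
    rw [sum_eq_zero hall] at hsum
    exact smul_ne_zero hr0 hu hsum.symm
  set w := ∑ i ∈ range r, ((h j) ^ i) u with hw
  have hjr : (h j) ^ r = 1 := by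
    have hc : Commute (scal (d ^ j) : Aut V) g := (H.scal_comm hg _).symm
    rw [hh, hc.mul_pow, hgr, mul_one, ← map_pow, ← pow_mul, mul_comm, pow_mul, ← hd,
      pow_orderOf_eq_one, one_pow, map_one]
  have hfix : h j w = w := by
    have h1 := sum_range_succ' (fun i => ((h j) ^ i) u) r
    have h2 := sum_range_succ (fun i => ((h j) ^ i) u) r
    rw [hjr, h1] at h2
    simp only [pow_zero] at h2
    rw [hw, map_sum]
    refine (sum_congr rfl fun i _ => ?_).trans (add_right_cancel h2)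
    rw [pow_succ']
    rfl
  have h1 : h j = 1 := hf _ (mul_mem (H.scal_mem _) hg) w hne hfix
  refine ⟨(d ^ j)⁻¹, ?_⟩
  rw [map_inv]
  exact eq_inv_of_mul_eq_one_right h1

/-- A noncentral element of prime order modulo scalars. -/
theorem free_prime (hf : H.Free) {z : Aut V} (hz : z ∈ H.B) {r : ℕ} (hr : r.Prime) {c : Kˣ}
    (hzr : z ^ r = scal c) (hns : ∀ e : Kˣ, z ≠ scal e) :
    r = 2 ∧ ¬ IsSquare c := by
  obtain ⟨y, hy, hne⟩ : ∃ y ∈ H.B, z * y ≠ y * z := by
    by_contra h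
    push Not at h
    obtain ⟨e, he⟩ := H.centre z hz h
    exact hns e he
  obtain ⟨d, hd⟩ := H.comm z hz y hy
  have hdr : d ^ r = 1 := H.comm_pow_eq_one hz hy hd hzr
  have hd1 : d ≠ 1 := fun h => hne (by rw [hd, h, map_one, one_mul])
  have hord : orderOf d = r := @orderOf_eq_prime _ _ d r ⟨hr⟩ hdr hd1
  have hnp : ∀ e : Kˣ, c ≠ e ^ r := by
    intro e he
    have hc : Commute (scal e⁻¹ : Aut V) z := (H.scal_comm hz _).symm
    obtain ⟨c', hc'⟩ := H.free_pow_one hf (mul_mem (H.scal_mem e⁻¹) hz) hr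
      (by rw [hc.mul_pow, hzr, ← map_pow, ← map_mul, he, inv_pow, inv_mul_cancel, map_one]) hord
    refine hns (e * c') ?_
    rw [map_mul, ← hc', ← mul_assoc, ← map_mul, mul_inv_cancel, map_one, one_mul]
  have key : r = 2 := by
    by_contra hr2
    obtain ⟨c₀, hc₀⟩ := H.powN y hy
    have hdN : d ^ H.N = 1 := by
      have := H.comm_pow_eq_one hy hz (comm_symm hd) hc₀
      simpa using this
    obtain ⟨s, hs⟩ : r ∣ H.N := hord ▸ orderOf_dvd_of_pow_eq_one hdN
    have hrs : ¬ r ∣ s :=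
      fun h => hr.not_isUnit (H.sqf r (by rw [hs]; exact Nat.mul_dvd_mul_left r h))
    have hzys := H.pow_comm hy hd s
    have hyr : (y ^ s) ^ r = scal c₀ := by rw [← pow_mul, mul_comm, ← hs, hc₀]
    have hds : d ^ s ≠ 1 := fun h => hrs (hord ▸ orderOf_dvd_of_pow_eq_one h)
    set w := y ^ s with hw
    have hwB : w ∈ H.B := pow_mem hy s
    obtain ⟨θ, hθ⟩ := IsCyclic.exists_generator (α := Kˣ)
    obtain ⟨f, hfc : θ ^ f = c⟩ := (isOfFinOrder_of_finite θ).mem_powers_iff_mem_zpowers.mpr (hθ c)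
    obtain ⟨f', hfc' : θ ^ f' = c₀⟩ :=
      (isOfFinOrder_of_finite θ).mem_powers_iff_mem_zpowers.mpr (hθ c₀)
    haveI : Fact r.Prime := ⟨hr⟩
    have hfr : (f : ZMod r) ≠ 0 := by
      rw [Ne, ZMod.natCast_eq_zero_iff]
      rintro ⟨g, rfl⟩
      exact hnp (θ ^ g) (by rw [← hfc, ← pow_mul, mul_comm])
    set k := (-(f' : ZMod r) * (f : ZMod r)⁻¹).val with hk
    obtain ⟨g, hg⟩ : r ∣ f' + k * f := by
      rw [← ZMod.natCast_eq_zero_iff, Nat.cast_add, Nat.cast_mul, hk, ZMod.natCast_val, ZMod.cast_id',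
        id, mul_assoc, inv_mul_cancel₀ hfr, mul_one, add_neg_cancel]
    have hzk : z ^ k * w = scal ((d ^ s) ^ k) * (w * z ^ k) := H.comm_pow hz hzys k
    have hpow : ∀ n, (w * z ^ k) ^ n =
        scal (((d ^ s) ^ k) ^ (n * (n - 1) / 2)) * (w ^ n * (z ^ k) ^ n) := by
      intro n
      induction n with
      | zero => simp
      | succ n ih =>
        have h1 := H.comm_pow (pow_mem hz k) hzk n
        have hsn : (n + 1) * (n + 1 - 1) / 2 = n * (n - 1) / 2 + n := by
          have := Finset.sum_range_id (n + 1)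
          rw [Finset.sum_range_succ, Finset.sum_range_id] at this
          omega
        rw [pow_succ, ih, hsn, pow_add _ (n * (n - 1) / 2) n, map_mul]
        calc scal (((d ^ s) ^ k) ^ (n * (n - 1) / 2)) * (w ^ n * (z ^ k) ^ n) * (w * z ^ k)
            = scal (((d ^ s) ^ k) ^ (n * (n - 1) / 2)) * (w ^ n * ((z ^ k) ^ n * w) * z ^ k) := by
              simp only [mul_assoc]
          _ = scal (((d ^ s) ^ k) ^ (n * (n - 1) / 2)) * (w ^ n *
              (scal (((d ^ s) ^ k) ^ n) * (w * (z ^ k) ^ n)) * z ^ k) := by rw [h1]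
          _ = _ := by
              rw [H.mul_scal (pow_mem hwB n), pow_succ w, pow_succ (z ^ k)]
              simp only [mul_assoc]
    obtain ⟨t, ht⟩ : r ∣ r * (r - 1) / 2 := by
      refine (Nat.Coprime.dvd_of_dvd_mul_right
        ((Nat.Prime.coprime_iff_not_dvd hr).mpr fun h => hr2 ((Nat.prime_dvd_prime_iff_eq hr Nat.prime_two).mp h)) ?_)
      rw [Nat.div_mul_cancel (Even.two_dvd (Nat.even_mul_pred_self r))]
      exact dvd_mul_right r _
    have hdk : ((d ^ s) ^ k) ^ r = 1 := by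
      rw [← pow_mul, ← pow_mul, show s * (k * r) = r * (s * k) by ring, pow_mul, hdr, one_pow]
    have hwz : (w * z ^ k) ^ r = scal ((θ ^ g) ^ r) := by
      rw [hpow r, ht, pow_mul ((d ^ s) ^ k) r t, hdk, one_pow, map_one, one_mul, hyr, ← pow_mul z, mul_comm k r,
        pow_mul, hzr, ← map_pow, ← map_mul, ← hfc, ← hfc', ← pow_mul, mul_comm f k, ← pow_add, hg,
        ← pow_mul, mul_comm g r]
    have hc : Commute (scal (θ ^ g)⁻¹ : Aut V) (w * z ^ k) :=
      (H.scal_comm (mul_mem hwB (pow_mem hz k)) _).symm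
    obtain ⟨e, he⟩ := H.free_pow_one hf (mul_mem (H.scal_mem (θ ^ g)⁻¹) (mul_mem hwB (pow_mem hz k))) hr
      (by rw [hc.mul_pow, hwz, ← map_pow, ← map_mul, inv_pow, inv_mul_cancel, map_one]) hord
    rw [map_inv, inv_mul_eq_iff_eq_mul, ← map_mul, ← eq_mul_inv_iff_mul_eq] at he
    have hcomm : Commute z w := by
      rw [he]
      exact Commute.mul_right (H.scal_comm hz _) ((Commute.refl z).pow_right k).inv_right
    rw [hcomm.eq] at hzys
    exact hds (scal_injective (V := V) (by rw [map_one]; exact mul_eq_right.mp hzys.symm))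
  refine ⟨key, fun ⟨e, he⟩ => hnp e ?_⟩
  rw [key, sq, ← he]

/-- Squares are scalar. -/
theorem free_sq (hf : H.Free) {x : Aut V} (hx : x ∈ H.B) : ∃ c : Kˣ, x ^ 2 = scal c := by
  classical
  have hex : ∃ n, 0 < n ∧ ∃ c : Kˣ, x ^ n = scal c :=
    ⟨orderOf x, orderOf_pos x, 1, by rw [pow_orderOf_eq_one, map_one]⟩
  set n := Nat.find hex with hn
  obtain ⟨hn0, c, hc⟩ := Nat.find_spec hex
  have hmin : ∀ m, 0 < m → (∃ e : Kˣ, x ^ m = scal e) → n ≤ m := fun m h1 h2 =>
    Nat.find_le ⟨h1, h2⟩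
  have hdvd : n ∣ H.N := by
    obtain ⟨e, he⟩ := H.powN x hx
    by_contra hnd
    have hpos : 0 < H.N % n := Nat.pos_of_ne_zero fun h => hnd (Nat.dvd_of_mod_eq_zero h)
    have := hmin _ hpos ⟨e * (c ^ (H.N / n))⁻¹, ?_⟩
    · exact absurd this (not_le.mpr (Nat.mod_lt _ hn0))
    · rw [map_mul, map_inv, map_pow, ← hc, ← he, eq_mul_inv_iff_mul_eq, ← pow_mul, ← pow_add,
        Nat.mod_add_div]
  have hall : ∀ r, r.Prime → r ∣ n → r = 2 := by
    intro r hr hrn
    refine (H.free_prime hf (pow_mem hx (n / r)) hr (c := c)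
      (by rw [← pow_mul, Nat.div_mul_cancel hrn, hc]) fun e he => ?_).1
    have h1 := hmin (n / r) (Nat.div_pos (Nat.le_of_dvd hn0 hrn) hr.pos) ⟨e, he⟩
    exact absurd h1 (not_le.mpr (Nat.div_lt_self hn0 hr.one_lt))
  have h2 : n ∣ 2 := by
    rcases eq_or_ne n 1 with h | h
    · exact h ▸ one_dvd 2
    obtain ⟨r, hr, hrn⟩ := Nat.exists_prime_and_dvd h
    obtain rfl := hall r hr hrn
    obtain ⟨m, hm⟩ := hrn
    suffices m = 1 by rw [hm, this]
    by_contra hm1
    obtain ⟨r', hr', hr'm⟩ := Nat.exists_prime_and_dvd hm1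
    obtain rfl := hall r' hr' (hm ▸ hr'm.trans (dvd_mul_left m 2))
    refine Nat.prime_two.not_isUnit (H.sqf 2 ?_)
    exact (Nat.mul_dvd_mul_left 2 hr'm).trans (hm ▸ hdvd)
  obtain ⟨m, hm⟩ := h2
  exact ⟨c ^ m, by rw [hm, pow_mul, hc, map_pow]⟩

theorem free_anti_neg_one {a b : Aut V} {c d : Kˣ} (ha : a ∈ H.B) (hb : b ∈ H.B)
    (haa : a ^ 2 = scal c) (hd : a * b = scal d * (b * a)) (hne : a * b ≠ b * a) : (d : K) = -1 := by
  have h2 : d ^ 2 = 1 := H.comm_pow_eq_one ha hb hd haa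
  have h3 : (d : K) ^ 2 = 1 := by rw [← Units.val_pow_eq_pow_val, h2, Units.val_one]
  refine (sq_eq_one_iff.mp h3).resolve_left fun h => hne ?_
  rw [hd, show d = 1 from Units.ext h, map_one, one_mul]

theorem free_nonsq (hf : H.Free) {z : Aut V} (hz : z ∈ H.B) {c : Kˣ} (hzz : z ^ 2 = scal c)
    (hns : ∀ e : Kˣ, z ≠ scal e) : ¬ IsSquare c :=
  (H.free_prime hf hz Nat.prime_two hzz hns).2

end Heis

end Cfsg.Agent.Lib.BaseSize.Pauli
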