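/-
The two outcomes for groups in which no nontrivial element fixes a nonzero vector.
-/
import Cfsg.Agent.Lib.BaseSize.Pauli.Aniso

set_option autoImplicit false
set_option linter.unusedSectionVars false

namespace Cfsg.Agent.Lib.BaseSize.Pauli

universe u v

variable {K : Type u} [Field K] {V : Type v} [AddCommGroup V] [Module K V]

theorem isSquare_mul_of_not [Finite K] {x y : Kˣ} (hx : ¬ IsSquare x) (hy : ¬ IsSquare y) :
    IsSquare (x * y) := by
  obtain ⟨θ, hθ⟩ := IsCyclic.exists_generator (α := Kˣ)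
  obtain ⟨f, hf : θ ^ f = x⟩ := (isOfFinOrder_of_finite θ).mem_powers_iff_mem_zpowers.mpr (hθ x)
  obtain ⟨g, hg : θ ^ g = y⟩ := (isOfFinOrder_of_finite θ).mem_powers_iff_mem_zpowers.mpr (hθ y)
  have hodd : ∀ n, ¬ IsSquare (θ ^ n) → n % 2 = 1 := by
    intro n hn
    by_contra h
    exact hn ⟨θ ^ (n / 2), by rw [← pow_add]; congr 1; omega⟩
  have h1 := hodd f (hf ▸ hx)
  have h2 := hodd g (hg ▸ hy)
  exact ⟨θ ^ ((f + g) / 2), by rw [← hf, ← hg, ← pow_add, ← pow_add]; congr 1; omega⟩

namespace Heis

variable (H : Heis K V) [Finite K] [Finite V] [Nontrivial V]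

theorem free_cases (hf : H.Free) (hs : ¬ H.Scalars) (h2 : (2 : K) ≠ 0) {p : ℕ} :
    (∀ (Γ : Subgroup (Aut V)), H.Acts p Γ → ∃ u₁ u₂ : V, H.Good Γ u₁ u₂) ∨
      Nonempty H.MinusOne := by
  classical
  obtain ⟨a', ha', hna'⟩ : ∃ x ∈ H.B, ∀ c : Kˣ, x ≠ scal c := by
    simp only [Scalars] at hs
    push Not at hs
    exact hs
  obtain ⟨b', hb', hne'⟩ : ∃ y ∈ H.B, a' * y ≠ y * a' := by
    by_contra h
    push Not at h
    obtain ⟨e, he⟩ := H.centre a' ha' h
    exact hna' e he
  have hnsc : ∀ (x : Aut V), (∃ y ∈ H.B, x * y ≠ y * x) → ∀ c : Kˣ, x ≠ scal c := by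
    rintro x ⟨y, hy, hne⟩ c rfl
    exact hne (H.scal_comm hy c).symm
  have hnb' := hnsc b' ⟨a', ha', Ne.symm hne'⟩
  obtain ⟨ca, hca⟩ := H.free_sq hf ha'
  obtain ⟨cb, hcb⟩ := H.free_sq hf hb'
  have hca' := H.free_nonsq hf ha' hca hna'
  have hcb' := H.free_nonsq hf hb' hcb hnb'
  obtain ⟨d, hd⟩ := H.comm a' ha' b' hb'
  have hd' : (d : K) = -1 := H.free_anti_neg_one ha' hb' hca hd hne'
  have hdm : d = -1 := Units.ext (by rw [Units.val_neg, Units.val_one]; exact hd')
  have hneg : ¬ IsSquare (-1 : Kˣ) := by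
    intro hsq
    have hab : (a' * b') ^ 2 = scal (-1 * (ca * cb)) := by
      have hba : b' * a' = scal (-1 : Kˣ) * (a' * b') := by
        rw [comm_symm hd, hdm, inv_neg, inv_one]
      calc (a' * b') ^ 2 = a' * (b' * a') * b' := by rw [sq]; group
        _ = scal (-1 : Kˣ) * (a' * (a' * b') * b') := by rw [hba, H.mul_scal ha']; simp only [mul_assoc]
        _ = _ := by
            rw [← mul_assoc a' a' b', mul_assoc (a' * a'), ← sq, ← sq, hca, hcb, ← map_mul, ← map_mul]
    exact H.free_nonsq hf (mul_mem ha' hb') hab (hnsc _ ⟨a', ha', fun h => hne' (by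
      rw [mul_assoc] at h
      exact (mul_left_cancel h).symm)⟩) (hsq.mul (isSquare_mul_of_not hca' hcb'))
  -- normalised generators
  have hnorm : ∀ (x : Aut V) (c : Kˣ), x ^ 2 = scal c → ¬ IsSquare c → x ∈ H.B →
      ∃ s : Kˣ, ∀ u, (scal s * x : Aut V) ((scal s * x : Aut V) u) = -u := by
    intro x c hx hc hxB
    obtain ⟨s, hs⟩ : IsSquare (-1 * c) := isSquare_mul_of_not hneg hc
    refine ⟨s⁻¹, fun u => ?_⟩
    have h1 : (scal s⁻¹ * x) ^ 2 = scal (-1 : Kˣ) := by
      have hcm : Commute (scal s⁻¹ : Aut V) x := (H.scal_comm hxB _).symm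
      rw [hcm.mul_pow, hx, ← map_pow, ← map_mul]
      refine congrArg _ ?_
      have h3 : c = -1 * (s * s) := by rw [← hs]; simp
      rw [h3, sq, ← mul_inv_rev, ← mul_assoc, mul_comm (s * s)⁻¹, mul_assoc, inv_mul_cancel, mul_one]
    rw [← LinearEquiv.mul_apply, ← sq, h1, scal_apply]
    simp
  obtain ⟨sa, haa⟩ := hnorm a' ca hca hca' ha'
  obtain ⟨sb, hbb⟩ := hnorm b' cb hcb hcb' hb'
  obtain ⟨a, ha_def⟩ : ∃ a, a = scal sa * a' := ⟨_, rfl⟩
  obtain ⟨b, hb_def⟩ : ∃ b, b = scal sb * b' := ⟨_, rfl⟩
  rw [← ha_def] at haa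
  rw [← hb_def] at hbb
  have ha : a ∈ H.B := ha_def ▸ mul_mem (H.scal_mem _) ha'
  have hb : b ∈ H.B := hb_def ▸ mul_mem (H.scal_mem _) hb'
  have hba : ∀ u, b (a u) = -a (b u) := by
    intro u
    have h := LinearEquiv.congr_fun hd u
    simp only [LinearEquiv.mul_apply, scal_apply, hd', neg_smul, one_smul] at h
    simp only [ha_def, hb_def, LinearEquiv.mul_apply, scal_apply, H.lin _ ha', H.lin _ hb', h,
      smul_neg, neg_neg, smul_smul, mul_comm (sa : K)]
  have h1sq : ∀ x : K, x * x ≠ -1 := by
    intro x hx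
    have hx0 : x ≠ 0 := fun h => by rw [h, mul_zero] at hx; exact neg_ne_zero.mpr one_ne_zero hx.symm
    exact hneg ⟨Units.mk0 x hx0, Units.ext (by simp [hx])⟩
  have hind : ∀ (u : V), u ≠ 0 → ∀ (c e : K), c • u + e • a u = 0 → c = 0 ∧ e = 0 := by
    intro u hu c e h
    have h' := congrArg a h
    rw [map_add, map_zero, H.lin _ ha, H.lin _ ha, haa, smul_neg] at h'
    have h'' : (c * c + e * e) • u = 0 := by
      calc (c * c + e * e) • u = c • (c • u + e • a u) - e • (c • a u + -(e • u)) := by module
        _ = 0 := by rw [h, h', smul_zero, smul_zero, sub_zero]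
    have h0 := (smul_eq_zero.mp h'').resolve_right hu
    by_cases he : e = 0
    · refine ⟨?_, he⟩
      rw [he, mul_zero, add_zero] at h0
      exact mul_self_eq_zero.mp h0
    · exact absurd (show (c / e) * (c / e) = -1 by field_simp; linear_combination h0) (h1sq _)
  -- a vector with `b` in the span
  obtain ⟨y, z, hyz⟩ : ∃ y z : K, y * y + z * z = -1 := by
    haveI : Fintype K := Fintype.ofFinite K
    obtain ⟨q, _⟩ := CharP.exists K
    haveI : NeZero q := ⟨(CharP.char_is_prime K q).ne_zero⟩
    obtain ⟨i, j, h⟩ := CharP.sq_add_sq K q (-1)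
    exact ⟨_, _, by simpa [sq] using h⟩
  have hz : z ≠ 0 := fun h => h1sq y (by rw [h, mul_zero, add_zero] at hyz; exact hyz)
  obtain ⟨v, hv, y, z, hz, hyzv⟩ : ∃ v : V, v ≠ 0 ∧ ∃ y z : K, z ≠ 0 ∧ y • a v + z • b v = v := by
    obtain ⟨u, hu⟩ := exists_ne (0 : V)
    by_cases h : u + (y • a u + z • b u) = 0
    · refine ⟨u, hu, -y, -z, neg_ne_zero.mpr hz, ?_⟩
      calc (-y) • a u + (-z) • b u = u - (u + (y • a u + z • b u)) := by module
        _ = u := by rw [h, sub_zero]
    · refine ⟨_, h, y, z, hz, ?_⟩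
      simp only [map_add, H.lin _ ha, H.lin _ hb, haa, hbb, hba, smul_neg]
      calc _ = y • a u + z • b u + (-(y * y + z * z)) • u := by module
        _ = _ := by rw [hyz, neg_neg, one_smul]; abel
  obtain ⟨α, β, hbv⟩ : ∃ α β : K, b v = α • v + β • a v := by
    refine ⟨z⁻¹, -(z⁻¹ * y), smul_right_injective V hz ?_⟩
    show z • b v = z • (z⁻¹ • v + -(z⁻¹ * y) • a v)
    rw [smul_add, smul_smul, smul_smul, mul_neg, ← mul_assoc, mul_inv_cancel₀ hz, one_mul, one_smul,
      neg_smul, ← sub_eq_add_neg, eq_sub_iff_add_eq, add_comm]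
    exact hyzv
  have hαβ : α * α + β * β = -1 := by
    have h := hbb v
    rw [hbv, map_add, H.lin _ hb, H.lin _ hb, hba, hbv, map_add, H.lin _ ha, H.lin _ ha, haa] at h
    have h' : (α * α + β * β + 1) • v + (0 : K) • a v = 0 := by
      calc _ = α • (α • v + β • a v) + β • -(α • a v + β • -v) + v := by module
        _ = 0 := by rw [h, neg_add_cancel]
    exact eq_neg_of_add_eq_zero_left (hind v hv _ _ h').1
  -- the whole group
  have habB : a * b ∈ H.B := mul_mem ha hb
  have hcommab : a * b ≠ b * a := by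
    intro h
    have h' := LinearEquiv.congr_fun h v
    simp only [LinearEquiv.mul_apply, hba] at h'
    have h'' : (2 : K) • a (b v) = 0 := by rw [two_smul]; nth_rw 1 [h']; exact neg_add_cancel _
    rcases smul_eq_zero.mp h'' with h3 | h3
    · exact h2 h3
    · exact hv (b.injective ((a.injective (h3.trans (map_zero a).symm)).trans (map_zero b).symm))
  have hforms : ∀ x ∈ H.B, ∃ c : Kˣ, (∀ u, x u = (c : K) • u) ∨ (∀ u, x u = (c : K) • a u) ∨
      (∀ u, x u = (c : K) • b u) ∨ ∀ u, x u = (c : K) • a (b u) := by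
    intro x hx
    have hsign : ∀ w ∈ H.B, (∀ u, x (w u) = w (x u)) ∨ ∀ u, x (w u) = -w (x u) := by
      intro w hw
      obtain ⟨c, hc⟩ := H.free_sq hf hx
      obtain ⟨e, he⟩ := H.comm x hx w hw
      by_cases hcm : x * w = w * x
      · exact Or.inl fun u => LinearEquiv.congr_fun hcm u
      · right
        intro u
        have := LinearEquiv.congr_fun he u
        rw [LinearEquiv.mul_apply, LinearEquiv.mul_apply, scal_apply,
          H.free_anti_neg_one hx hw hc he hcm, neg_smul, one_smul] at this
        exact this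
    have hscal : ∀ w ∈ H.B, (∀ u, w (a u) = a (w u)) → (∀ u, w (b u) = b (w u)) →
        ∃ c : Kˣ, w = scal c := by
      intro w hw h1 h2'
      by_contra hns
      push Not at hns
      obtain ⟨c, hc⟩ := H.free_sq hf hw
      have hcq := H.free_nonsq hf hw hc hns
      have haw : (a * w) ^ 2 = scal (-1 * c) := by
        have hc' : Commute a w := LinearEquiv.ext fun u => (h1 u).symm
        rw [hc'.mul_pow, hc, map_mul]
        congr 1
        refine LinearEquiv.ext fun u => ?_
        rw [sq, LinearEquiv.mul_apply, haa, scal_apply]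
        simp
      by_cases haws : ∀ e : Kˣ, a * w ≠ scal e
      · exact H.free_nonsq hf (mul_mem ha hw) haw haws (isSquare_mul_of_not hneg hcq)
      push Not at haws
      obtain ⟨e, he⟩ := haws
      refine hcommab ?_
      have hae : a = scal e * w⁻¹ := by rw [← he, mul_inv_cancel_right]
      have hwb : Commute w b := LinearEquiv.ext fun u => h2' u
      rw [hae]
      exact (Commute.mul_left (H.scal_comm hb e).symm hwb.inv_left).eq
    have hinv : ∀ (g : Aut V), g ∈ H.B → (∀ u, g (g u) = -u) → ∀ (c : Kˣ), x * g = scal c →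
        ∀ u, x u = ((-c : Kˣ) : K) • g u := by
      intro g hg hgg c hc u
      have h := LinearEquiv.congr_fun hc (g u)
      rw [LinearEquiv.mul_apply, scal_apply, hgg, map_neg] at h
      rw [Units.val_neg, neg_smul, ← h, neg_neg]
    rcases hsign a ha with ca' | ca' <;> rcases hsign b hb with cb' | cb'
    · obtain ⟨c, hc⟩ := hscal x hx ca' cb'
      exact ⟨c, Or.inl fun u => by rw [hc, scal_apply]⟩
    · obtain ⟨c, hc⟩ := hscal (x * a) (mul_mem hx ha)
        (fun u => by rw [LinearEquiv.mul_apply, LinearEquiv.mul_apply, ca' (a u)])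
        (fun u => by
          rw [LinearEquiv.mul_apply, LinearEquiv.mul_apply, show a (b u) = -b (a u) by rw [hba, neg_neg],
            map_neg, cb' (a u), neg_neg])
      exact ⟨-c, Or.inr (Or.inl (hinv a ha haa c hc))⟩
    · obtain ⟨c, hc⟩ := hscal (x * b) (mul_mem hx hb)
        (fun u => by
          rw [LinearEquiv.mul_apply, LinearEquiv.mul_apply, hba, map_neg, ca' (b u), neg_neg])
        (fun u => by rw [LinearEquiv.mul_apply, LinearEquiv.mul_apply, cb' (b u)])
      exact ⟨-c, Or.inr (Or.inr (Or.inl (hinv b hb hbb c hc)))⟩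
    · obtain ⟨c, hc⟩ := hscal (x * (a * b)) (mul_mem hx habB)
        (fun u => by
          simp only [LinearEquiv.mul_apply]
          rw [hba, map_neg, map_neg, ca' (a (b u)), neg_neg])
        (fun u => by
          simp only [LinearEquiv.mul_apply]
          rw [show a (b (b u)) = -b (a (b u)) by rw [hba, neg_neg], map_neg, cb' (a (b u)), neg_neg])
      refine ⟨-c, Or.inr (Or.inr (Or.inr ?_))⟩
      refine hinv (a * b) habB (fun u => ?_) c hc
      simp only [LinearEquiv.mul_apply, hba, map_neg, haa, hbb, neg_neg]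
  obtain ⟨θ, hθ⟩ := IsCyclic.exists_generator (α := Kˣ)
  have hθ0 := θ.ne_zero
  obtain ⟨k, hk⟩ : ∃ k : Kˣ, -((k : K) * k) = (θ : K) := by
    have hθn : ¬ IsSquare θ := by
      rintro ⟨e, he⟩
      obtain ⟨n, hn⟩ := Subgroup.mem_zpowers_iff.mp (hθ (-1))
      exact hneg ⟨e ^ n, by rw [← hn, he, ← mul_zpow]⟩
    obtain ⟨k, hk⟩ := isSquare_mul_of_not hneg hθn
    exact ⟨k, by rw [← Units.val_mul, ← hk]; simp⟩
  by_cases hq : (θ : K) = -1
  · right
    have hcard : Nat.card K = 3 := by
      haveI : Fintype K := Fintype.ofFinite K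
      have ho : Nat.card Kˣ ∣ 2 := orderOf_eq_card_of_forall_mem_zpowers hθ ▸
        orderOf_dvd_of_pow_eq_one (Units.ext (by simp [hq]))
      rw [Nat.card_units] at ho
      have h1 := Fintype.one_lt_card (α := K)
      have hne2 : Fintype.card K ≠ 2 := by
        intro h
        have h0 := FiniteField.cast_card_eq_zero K
        rw [h] at h0
        exact h2 (by exact_mod_cast h0)
      rw [Nat.card_eq_fintype_card] at ho ⊢
      have := Nat.le_of_dvd (by norm_num) ho
      omega
    have hu1 : ∀ x : K, x ≠ 0 → x = 1 ∨ x = -1 := by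
      intro x hx
      obtain ⟨n, hn⟩ := Subgroup.mem_zpowers_iff.mp (hθ (Units.mk0 x hx))
      rw [show θ = (-1 : Kˣ) from Units.ext (by simpa using hq)] at hn
      rcases Int.even_or_odd n with he | ho
      · rw [he.neg_one_zpow] at hn
        exact Or.inl (by simpa using (congrArg Units.val hn).symm)
      · rw [ho.neg_one_zpow] at hn
        exact Or.inr (by simpa using (congrArg Units.val hn).symm)
    have h3 : (3 : K) = 0 := by
      haveI : Fintype K := Fintype.ofFinite K
      have h0 := FiniteField.cast_card_eq_zero K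
      rw [← Nat.card_eq_fintype_card, hcard] at h0
      exact_mod_cast h0
    have hα : α ≠ 0 := fun h => h1sq β (by rw [h] at hαβ; linear_combination hαβ)
    have hβ : β ≠ 0 := fun h => h1sq α (by rw [h] at hαβ; linear_combination hαβ)
    have key : ∀ g : Aut V, g ∈ H.B → (∀ u, g (g u) = -u) → (∀ u, g (a u) = -a (g u)) →
        g v = v + a v → H.B ≤ Subgroup.closure (Set.range (scal (K := K) (V := V)) ∪ {a, g}) →
        Nonempty H.MinusOne := fun g hg h1 h2' h3' h4 =>
      ⟨⟨a, g, v, ha, hg, hv, hf, hcard, haa, h1, h2', h3', h4⟩⟩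
    have hgen : ∀ g : Aut V, (∃ c : Kˣ, (∀ u, b u = (c : K) • g u) ∨ ∀ u, b u = (c : K) • a (g u)) →
        H.B ≤ Subgroup.closure (Set.range (scal (K := K) (V := V)) ∪ {a, g}) := by
      intro g hg x hx
      have ma : a ∈ Subgroup.closure (Set.range (scal (K := K) (V := V)) ∪ {a, g}) :=
        Subgroup.subset_closure (Or.inr (Or.inl rfl))
      have mg : g ∈ Subgroup.closure (Set.range (scal (K := K) (V := V)) ∪ {a, g}) :=
        Subgroup.subset_closure (Or.inr (Or.inr rfl))
      have mc : ∀ c : Kˣ, (scal c : Aut V) ∈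
          Subgroup.closure (Set.range (scal (K := K) (V := V)) ∪ {a, g}) :=
        fun c => Subgroup.subset_closure (Or.inl ⟨c, rfl⟩)
      have mb : b ∈ Subgroup.closure (Set.range (scal (K := K) (V := V)) ∪ {a, g}) := by
        obtain ⟨c, hc | hc⟩ := hg
        · rw [show b = scal c * g from LinearEquiv.ext fun u => hc u]
          exact mul_mem (mc c) mg
        · rw [show b = scal c * (a * g) from LinearEquiv.ext fun u => hc u]
          exact mul_mem (mc c) (mul_mem ma mg)
      obtain ⟨c, h | h | h | h⟩ := hforms x hx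
      · rw [show x = scal c from LinearEquiv.ext h]; exact mc c
      · rw [show x = scal c * a from LinearEquiv.ext h]; exact mul_mem (mc c) ma
      · rw [show x = scal c * b from LinearEquiv.ext h]; exact mul_mem (mc c) mb
      · rw [show x = scal c * (a * b) from LinearEquiv.ext h]; exact mul_mem (mc c) (mul_mem ma mb)
    rcases hu1 β hβ with rfl | rfl <;> rcases hu1 α hα with rfl | rfl
    · exact key b hb hbb hba (by rw [hbv, one_smul, one_smul]) (hgen b ⟨1, Or.inl fun u => by simp⟩)
    · refine key (scal (-1 : Kˣ) * (a * b)) (mul_mem (H.scal_mem _) habB) (fun u => ?_) (fun u => ?_) ?_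
        (hgen _ ⟨1, Or.inr fun u => ?_⟩)
      · simp only [LinearEquiv.mul_apply, scal_apply, Units.val_neg, Units.val_one, neg_smul, one_smul,
          hba, map_neg, haa, hbb, neg_neg]
      · simp only [LinearEquiv.mul_apply, scal_apply, Units.val_neg, Units.val_one, neg_smul, one_smul,
          hba, map_neg, haa, neg_neg]
      · simp only [LinearEquiv.mul_apply, scal_apply, hbv, map_add, H.lin _ ha, haa, Units.val_neg,
          Units.val_one]
        module
      · simp only [LinearEquiv.mul_apply, scal_apply, Units.val_neg, Units.val_one, neg_smul, one_smul,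
          map_neg, haa, neg_neg]
    · refine key (a * b) habB (fun u => ?_) (fun u => ?_) ?_ (hgen _ ⟨-1, Or.inr fun u => ?_⟩)
      · simp only [LinearEquiv.mul_apply, hba, map_neg, haa, hbb, neg_neg]
      · simp only [LinearEquiv.mul_apply, hba, map_neg, haa, neg_neg]
      · simp only [LinearEquiv.mul_apply, hbv, map_add, H.lin _ ha, haa]
        module
      · simp only [LinearEquiv.mul_apply, haa]
        simp
    · refine key (scal (-1 : Kˣ) * b) (mul_mem (H.scal_mem _) hb) (fun u => ?_) (fun u => ?_) ?_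
        (hgen _ ⟨-1, Or.inl fun u => ?_⟩)
      · simp only [LinearEquiv.mul_apply, scal_apply, H.lin _ hb, hbb]
        simp
      · simp only [LinearEquiv.mul_apply, scal_apply, hba, H.lin _ ha]
        simp
      · simp only [LinearEquiv.mul_apply, scal_apply, hbv, Units.val_neg, Units.val_one]
        module
      · simp only [LinearEquiv.mul_apply, scal_apply]
        simp
  · left
    intro Γ hΓ
    have hk0 := k.ne_zero
    have hbad : ∀ t : K, (t = 1 ∨ t = -1) → ∀ x ∈ H.B, x v = t • v + (k : K) • a v →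
        (t * β = (k : K) * α ∨ t * α = -((k : K) * β)) := by
      intro t ht x hx hxv
      have ht0 : t ≠ 0 := by rcases ht with rfl | rfl <;> simp
      obtain ⟨c, h | h | h | h⟩ := hforms x hx <;> rw [h v] at hxv
      · exact absurd (hind v hv (c - t) (-(k : K)) (by
          calc _ = (c : K) • v - (t • v + (k : K) • a v) := by module
            _ = 0 := by rw [← hxv, sub_self])).2 (neg_ne_zero.mpr hk0)
      · exact absurd (hind v hv (-t) ((c : K) - k) (by
          calc _ = (c : K) • a v - (t • v + (k : K) • a v) := by module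
            _ = 0 := by rw [← hxv, sub_self])).1 (neg_ne_zero.mpr ht0)
      · rw [hbv] at hxv
        obtain ⟨e1, e2⟩ := hind v hv ((c : K) * α - t) ((c : K) * β - k) (by
          calc _ = (c : K) • (α • v + β • a v) - (t • v + (k : K) • a v) := by module
            _ = 0 := by rw [← hxv, sub_self])
        left
        linear_combination α * e2 - β * e1
      · rw [hbv, map_add, H.lin _ ha, H.lin _ ha, haa] at hxv
        obtain ⟨e1, e2⟩ := hind v hv (-((c : K) * β) - t) ((c : K) * α - k) (by
          calc _ = (c : K) • (α • a v + β • -v) - (t • v + (k : K) • a v) := by module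
            _ = 0 := by rw [← hxv, sub_self])
        right
        linear_combination -α * e1 - β * e2
    have hk1 : (k : K) * k ≠ 1 := fun h => hq (by rw [← hk, h])
    obtain ⟨t, ht, hgood⟩ : ∃ t : K, (t = 1 ∨ t = -1) ∧ ∀ x ∈ H.B, x v ≠ t • v + (k : K) • a v := by
      by_contra hall
      push Not at hall
      obtain ⟨x, hx, hxv⟩ := hall 1 (Or.inl rfl)
      obtain ⟨w, hw, hwv⟩ := hall (-1) (Or.inr rfl)
      have hαβ0 : ¬ (α = 0 ∧ β = 0) := by
        rintro ⟨rfl, rfl⟩
        simp at hαβ
      have h2' : ∀ x : K, 2 * x = 0 → x = 0 := fun x h => (mul_eq_zero.mp h).resolve_left h2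
      have hkk : (k : K) * k - 1 ≠ 0 := sub_ne_zero.mpr hk1
      rcases hbad 1 (Or.inl rfl) x hx hxv with h5 | h5 <;>
        rcases hbad (-1) (Or.inr rfl) w hw hwv with h6 | h6 <;> refine hαβ0 ?_
      · have hβ : β = 0 := h2' _ (by linear_combination h5 - h6)
        exact ⟨(mul_eq_zero.mp (show (k : K) * α = 0 by linear_combination -h5 + hβ)).resolve_left hk0, hβ⟩
      · have hα : α = 0 := (mul_eq_zero.mp (show ((k : K) * k - 1) * α = 0 by
          linear_combination -(k : K) * h5 + h6)).resolve_left hkk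
        exact ⟨hα, by linear_combination h5 + (k : K) * hα⟩
      · have hα : α = 0 := (mul_eq_zero.mp (show ((k : K) * k - 1) * α = 0 by
          linear_combination -(k : K) * h6 - h5)).resolve_left hkk
        exact ⟨hα, by linear_combination -h6 - (k : K) * hα⟩
      · have hα : α = 0 := h2' _ (by linear_combination h5 - h6)
        exact ⟨hα, (mul_eq_zero.mp (show (k : K) * β = 0 by linear_combination h5 - hα)).resolve_left hk0⟩
    have ht0 : t ≠ 0 := by rcases ht with rfl | rfl <;> simp
    refine ⟨v, t • v + (k : K) • a v, ⟨⟨hv, fun x hx hxv => hf x hx v hv hxv⟩,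
      fun γ hγ hv1 hv2 => ?_⟩, fun h => ht0 (hind v hv _ _ h).1, fun x hx => hgood x hx⟩
    have hfree : ∀ g ∈ H.B, γ (g v) = g v → γ * g = g * γ := by
      intro g hg hgv
      have hgB := hΓ.norm γ hγ g hg
      have h1 : g⁻¹ * (γ * g * γ⁻¹) = 1 := hf _ (mul_mem (inv_mem hg) hgB) v hv (by
        rw [LinearEquiv.mul_apply, conj_apply_fix hv1, hgv]
        exact g.symm_apply_apply v)
      rw [inv_mul_eq_one, eq_mul_inv_iff_mul_eq] at h1
      exact h1.symm
    have htv : γ (t • v) = t • v := by
      rcases ht with rfl | rfl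
      · rw [one_smul, hv1]
      · rw [neg_smul, one_smul, map_neg, hv1]
    have ha1 : γ ((scal k * a : Aut V) v) = (scal k * a : Aut V) v := by
      rw [map_add, htv, add_left_cancel_iff] at hv2
      exact hv2
    have hca1 := hfree _ (mul_mem (H.scal_mem k) ha) ha1
    have hθscal : (scal θ : Aut V) = (scal k * a) * (scal k * a) := by
      refine LinearEquiv.ext fun u => ?_
      simp only [LinearEquiv.mul_apply, scal_apply, H.lin _ ha, haa, smul_neg, smul_smul, ← hk, neg_smul]
    have hσ : ∀ c : Kˣ, γ * scal c = scal c * γ := by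
      intro c
      obtain ⟨n, rfl⟩ := Subgroup.mem_zpowers_iff.mp (hθ c)
      rw [map_zpow, hθscal]
      exact (Commute.zpow_right (Commute.mul_right (show Commute γ _ from hca1)
        (show Commute γ _ from hca1)) n).eq
    have hlin : ∀ (c : K) (u : V), γ (c • u) = c • γ u := by
      intro c u
      by_cases hc : c = 0
      · simp [hc]
      · exact LinearEquiv.congr_fun (hσ (Units.mk0 c hc)) u
    have hcA : γ * a = a * γ := by
      have h := ((show Commute γ (scal k) from hσ k).inv_right).mul_right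
        (show Commute γ (scal k * a) from hca1)
      rw [inv_mul_cancel_left] at h
      exact h.eq
    have hcB : γ * b = b * γ := hfree b hb (by
      rw [hbv, map_add, hlin, hlin, hv1]
      have : γ (a v) = a v := by
        have := LinearEquiv.congr_fun hcA v
        rwa [LinearEquiv.mul_apply, LinearEquiv.mul_apply, hv1] at this
      rw [this])
    intro x hx
    obtain ⟨c, h | h | h | h⟩ := hforms x hx
    · rw [show x = scal c from LinearEquiv.ext h]; exact hσ c
    · rw [show x = scal c * a from LinearEquiv.ext h]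
      exact (Commute.mul_right (show Commute γ _ from hσ c) hcA).eq
    · rw [show x = scal c * b from LinearEquiv.ext h]
      exact (Commute.mul_right (show Commute γ _ from hσ c) hcB).eq
    · rw [show x = scal c * (a * b) from LinearEquiv.ext h]
      exact (Commute.mul_right (show Commute γ _ from hσ c)
        (Commute.mul_right (show Commute γ a from hcA) hcB)).eq

end Heis

end Cfsg.Agent.Lib.BaseSize.Pauli
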