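/-
Bases in which the group is given by the matrices of a model.
-/
import Cfsg.Agent.Lib.BaseSize.Pauli.FreeCases
import Cfsg.Agent.Lib.BaseSize.Pauli.CertSound

set_option autoImplicit false
set_option linter.unusedSectionVars false

open Finset

namespace Cfsg.Agent.Lib.BaseSize.Pauli

universe u v

/-- A matrix by columns. -/
def cols (d : ℕ) (f : ℕ → ℕ → ℕ) : List (List ℕ) :=
  (List.range d).map fun b => (List.range d).map (f b)

theorem cols_getD {d : ℕ} (f : ℕ → ℕ → ℕ) {b j : ℕ} (hb : b < d) (hj : j < d) :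
    ((cols d f).getD b []).getD j 0 = f b j := by
  simp [cols, List.getD_eq_getElem?_getD, List.getElem?_map, List.getElem?_range hb,
    List.getElem?_range hj]

/-- Two equal diagonal blocks. -/
def dblDiag (d : ℕ) (M : List (List ℕ)) : List (List ℕ) :=
  cols (d + d) fun b j => if b < d then (if j < d then (M.getD b []).getD j 0 else 0)
    else if d ≤ j then (M.getD (b - d) []).getD (j - d) 0 else 0

/-- The diagonal involution. -/
def dblL (p d : ℕ) : List (List ℕ) :=
  cols (d + d) fun b j => if b = j then (if b < d then 1 else p - 1) else 0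

/-- The interchange of the blocks. -/
def dblY (m d : ℕ) : List (List ℕ) :=
  cols (d + d) fun b j => if b < d then (if j = b + d then 1 else 0) else if j = b - d then m else 0

/-- The matrices one level up. -/
def dblGs (p m d : ℕ) (Ms : List (List (List ℕ))) : List (List (List ℕ)) :=
  Ms.map (dblDiag d) ++ [dblL p d, dblY m d]

variable {K : Type u} [Field K] {V : Type v} [AddCommGroup V] [Module K V]

/-- A group given by matrices in a basis of part of the space. -/
structure Pre (H : Heis K V) (d : ℕ) (Ms : List (List (List ℕ))) where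
  e : ℕ → V
  g : ℕ → Aut V
  indep : ∀ c : ℕ → K, ∑ j ∈ range d, c j • e j = 0 → ∀ j < d, c j = 0
  pos : 0 < d
  gmem : ∀ i < Ms.length, g i ∈ H.B
  mat : ∀ i < Ms.length, ∀ b < d,
    g i (e b) = ∑ j ∈ range d, (((Ms.getD i []).getD b []).getD j 0 : K) • e j
  closure : H.B ≤ Subgroup.closure (Set.range (scal (K := K) (V := V)) ∪ g '' {i | i < Ms.length})

/-- A checked model gives good pairs. -/
theorem Pre.good [Finite K] [Finite V] [Nontrivial V] {H : Heis K V} {P : Cert.Mdl}
    (F : Pre H P.d P.gs) (hP : P.Valid) {ns : List Cert.Node} (hT : P.TreeValid ns)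
    (hp : P.p.Prime) (hK : Nat.card K = P.p) {Γ : Subgroup (Aut V)} (hΓ : H.Acts P.p Γ) :
    ∃ u₁ u₂ : V, H.Good Γ u₁ u₂ :=
  Cert.Frame.sound
    (P := P) (H := H) ⟨F.e, F.g, F.indep, F.pos, F.gmem, F.mat, F.closure, hp, hK, hP⟩ hΓ hT

namespace Split

variable {H : Heis K V} (S : Split H) [Finite K] [Finite V] [Nontrivial V]

theorem flat_eq (hS : S.Flat) {c : Aut V} (hc : c ∈ S.C) :
    ∃ (d : Kˣ) (i : ℕ), c = scal d * S.l ^ i := by
  obtain ⟨d, hd⟩ := hS c hc
  have hc' : scal d⁻¹ * c ∈ S.C :=
    mul_mem (S.mem_C.mpr ⟨H.scal_mem _, (H.scal_comm S.hl _).symm⟩) hc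
  obtain ⟨i, -, h⟩ := S.eq_pow_of_fix hc' fun u hu => by
    rw [LinearEquiv.mul_apply, hd u hu, scal_apply, smul_smul, ← Units.val_mul, inv_mul_cancel,
      Units.val_one, one_smul]
  rw [map_inv, inv_mul_eq_iff_eq_mul] at h
  exact ⟨d, i, h⟩

/-- For an involution, elements of the induced group lift to elements commuting with `y`. -/
theorem exists_lift_comm (hr : S.r = 2) {b : Aut S.W} (hb : b ∈ S.sub.B) :
    ∃ c ∈ S.C, c * S.y = S.y * c ∧ ∀ u : S.W, ((b u : S.W) : V) = c u := by
  obtain ⟨c, hc, hcu⟩ := S.exists_lift hb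
  have hcB := (S.mem_C.mp hc).1
  obtain ⟨d, hd⟩ := H.comm c hcB S.y S.hy
  by_cases h : c * S.y = S.y * c
  · exact ⟨c, hc, h, hcu⟩
  have hd2 : d ^ 2 = 1 := by
    have := H.comm_pow_eq_one S.hy hcB (Heis.comm_symm hd) (n := 2) (d := S.m) (by rw [← hr]; exact S.hym)
    simpa using this
  have hd2' : (d : K) ^ 2 = 1 := by rw [← Units.val_pow_eq_pow_val, hd2, Units.val_one]
  have hd1 : (d : K) = -1 := by
    refine (sq_eq_one_iff.mp hd2').resolve_left fun e => h ?_
    rw [hd, show d = 1 from Units.ext e, map_one, one_mul]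
  refine ⟨c * S.l, mul_mem hc S.l_mem_C, ?_, fun u => ?_⟩
  · rw [H.mul_comm_left hcB hd S.hly, show S.ζ * d = 1 from Units.ext (by
      rw [Units.val_mul, S.zeta_two hr, hd1, Units.val_one]; ring), map_one, one_mul]
  · rw [LinearEquiv.mul_apply, S.mem_W.mp u.2]
    exact hcu u

/-- The basis one level up. -/
theorem double (hr : S.r = 2) {p m d : ℕ} (hp : 0 < p) (hp0 : (p : K) = 0)
    (hm : (m : K) = S.m) {Ms : List (List (List ℕ))} (F : Pre S.sub d Ms) :
    Nonempty (Pre H (d + d) (dblGs p m d Ms)) := by
  classical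
  have hlift : ∀ i, ∃ c : Aut V, i < Ms.length →
      c ∈ S.C ∧ c * S.y = S.y * c ∧ ∀ u : S.W, ((F.g i u : S.W) : V) = c u := by
    intro i
    by_cases hi : i < Ms.length
    · obtain ⟨c, h1, h2, h3⟩ := S.exists_lift_comm hr (F.gmem i hi)
      exact ⟨c, fun _ => ⟨h1, h2, h3⟩⟩
    · exact ⟨1, fun h => absurd h hi⟩
  choose c hc using hlift
  set k := Ms.length with hk
  let e : ℕ → V := fun j => if j < d then (F.e j : V) else S.y (F.e (j - d) : V)
  let g : ℕ → Aut V := fun i => if i < k then c i else if i = k then S.l else S.y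
  have hlen : (dblGs p m d Ms).length = k + 2 := by simp [dblGs, ← hk]
  have elo : ∀ j, j < d → e j = (F.e j : V) := fun j hj => if_pos hj
  have ehi : ∀ j, e (d + j) = S.y (F.e j : V) := fun j => by
    simp only [e, if_neg (Nat.not_lt.mpr (Nat.le_add_right d j)), Nat.add_sub_cancel_left]
  have getlo : ∀ i, i < k → (dblGs p m d Ms).getD i [] = dblDiag d (Ms.getD i []) := by
    intro i hi
    simp [dblGs, List.getD_eq_getElem?_getD, List.getElem?_append_left, ← hk, hi]
  have getL : (dblGs p m d Ms).getD k [] = dblL p d := by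
    simp [dblGs, List.getD_eq_getElem?_getD, List.getElem?_append_right, ← hk]
  have getY : (dblGs p m d Ms).getD (k + 1) [] = dblY m d := by
    simp [dblGs, List.getD_eq_getElem?_getD, List.getElem?_append_right, ← hk]
  refine ⟨⟨e, g, fun f hf j hj => ?_, by have := F.pos; omega, fun i hi => ?_, fun i hi b hb => ?_, ?_⟩⟩
  · -- independence
    rw [sum_range_add] at hf
    set A := ∑ j ∈ range d, f j • F.e j with hA
    set B := ∑ j ∈ range d, f (d + j) • F.e j with hB
    have hA' : ∑ j ∈ range d, f j • e j = (A : V) := by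
      rw [hA, Submodule.coe_sum]
      exact sum_congr rfl fun j hj => by rw [elo j (mem_range.mp hj), Submodule.coe_smul]
    have hB' : ∑ j ∈ range d, f (d + j) • e (d + j) = S.y (B : V) := by
      rw [hB, Submodule.coe_sum, map_sum]
      exact sum_congr rfl fun j _ => by rw [ehi, Submodule.coe_smul, H.lin _ S.hy]
    rw [hA', hB'] at hf
    have h0 : (A : V) = 0 := by
      have h := congrArg (S.proj 0) hf
      rw [S.proj_add, S.proj_wt S.hr.pos A.2, S.proj_wt S.hr.pos (S.y_wt B.2),
        S.proj_of_mem S.hr.pos S.hr.pos (Submodule.zero_mem _)] at h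
      simpa [Nat.one_mod_eq_one.mpr S.hr.ne_one] using h
    have h1 : (B : V) = 0 := by
      rw [h0, zero_add] at hf
      exact S.y.injective (hf.trans (map_zero S.y).symm)
    by_cases hjd : j < d
    · exact F.indep f (Subtype.ext h0) j hjd
    · have := F.indep (fun i => f (d + i)) (Subtype.ext h1) (j - d) (by omega)
      simpa [Nat.add_sub_cancel' (Nat.not_lt.mp hjd)] using this
  · simp only [g]
    split_ifs with h1 h2
    · exact (S.mem_C.mp (hc i h1).1).1
    · exact S.hl
    · exact S.hy
  · rw [sum_range_add]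
    rw [hlen] at hi
    rcases (show i < k ∨ i = k ∨ i = k + 1 by omega) with hik | rfl | rfl
    · obtain ⟨-, hcy, hcu⟩ := hc i hik
      have hg : g i = c i := if_pos hik
      rw [hg, getlo i hik]
      have hmat : ∀ b' < d, c i (F.e b' : V) =
          ∑ j ∈ range d, (((Ms.getD i []).getD b' []).getD j 0 : K) • (F.e j : V) := by
        intro b' hb'
        rw [← hcu, F.mat i hik b' hb', Submodule.coe_sum]
        rfl
      by_cases hbd : b < d
      · rw [elo b hbd, hmat b hbd, sum_eq_zero (s := range d)
          (f := fun x => ((((dblDiag d (Ms.getD i [])).getD b []).getD (d + x) 0 : ℕ) : K) • e (d + x))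
          fun x hx => by
            rw [dblDiag, cols_getD _ hb (by have := mem_range.mp hx; omega), if_pos hbd,
              if_neg (by omega), Nat.cast_zero, zero_smul], add_zero]
        refine sum_congr rfl fun j hj => ?_
        rw [dblDiag, cols_getD _ hb (by have := mem_range.mp hj; omega), if_pos hbd,
          if_pos (mem_range.mp hj), elo j (mem_range.mp hj)]
      · obtain ⟨b', rfl⟩ : ∃ b', b = d + b' := ⟨b - d, by omega⟩
        rw [ehi, ← LinearEquiv.mul_apply, hcy, LinearEquiv.mul_apply, hmat b' (by omega), map_sum,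
          sum_eq_zero (s := range d)
          (f := fun x => ((((dblDiag d (Ms.getD i [])).getD (d + b') []).getD x 0 : ℕ) : K) • e x)
          fun x hx => by
            rw [dblDiag, cols_getD _ hb (by have := mem_range.mp hx; omega), if_neg hbd,
              if_neg (by have := mem_range.mp hx; omega), Nat.cast_zero, zero_smul], zero_add]
        refine sum_congr rfl fun j hj => ?_
        rw [dblDiag, cols_getD _ hb (by have := mem_range.mp hj; omega), if_neg hbd,
          if_pos (Nat.le_add_right d j), Nat.add_sub_cancel_left, Nat.add_sub_cancel_left, ehi,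
          H.lin _ S.hy]
    · have hg : g k = S.l := by simp [g]
      rw [hg, getL, ← sum_range_add, sum_eq_single b]
      · rw [dblL, cols_getD _ hb hb, if_pos rfl]
        split_ifs with hbd
        · rw [elo b hbd, S.mem_W.mp (F.e b).2, Nat.cast_one, one_smul]
        · obtain ⟨b', rfl⟩ : ∃ b', b = d + b' := ⟨b - d, by omega⟩
          rw [ehi, S.mem_wt.mp (S.y_wt (F.e b').2), pow_one, S.zeta_two hr,
            Nat.cast_sub (show 1 ≤ p by omega), hp0, Nat.cast_one, zero_sub]
      · intro j hj hjb
        rw [dblL, cols_getD _ hb (mem_range.mp hj), if_neg (Ne.symm hjb), Nat.cast_zero, zero_smul]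
      · exact fun h => absurd (mem_range.mpr hb) h
    · have hg : g (k + 1) = S.y := by simp [g]
      rw [hg, getY, ← sum_range_add]
      by_cases hbd : b < d
      · rw [sum_eq_single (b + d)]
        · rw [dblY, cols_getD _ hb (by omega), if_pos hbd, if_pos rfl, Nat.cast_one, one_smul,
            add_comm b d, ehi, elo b hbd]
        · intro j hj hjb
          rw [dblY, cols_getD _ hb (mem_range.mp hj), if_pos hbd, if_neg hjb, Nat.cast_zero, zero_smul]
        · exact fun h => absurd (mem_range.mpr (by omega)) h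
      · obtain ⟨b', rfl⟩ : ∃ b', b = d + b' := ⟨b - d, by omega⟩
        rw [sum_eq_single b']
        · rw [dblY, cols_getD _ hb (by omega), if_neg hbd, Nat.add_sub_cancel_left, if_pos rfl, hm, ehi,
            elo b' (by omega)]
          have h := LinearEquiv.congr_fun S.hym (F.e b' : V)
          rw [hr, pow_two] at h
          exact h
        · intro j hj hjb
          rw [dblY, cols_getD _ hb (mem_range.mp hj), if_neg hbd, Nat.add_sub_cancel_left, if_neg hjb,
            Nat.cast_zero, zero_smul]
        · exact fun h => absurd (mem_range.mpr (by omega)) h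
  · -- generation
    rw [hlen]
    set G' := Subgroup.closure (Set.range (scal (K := K) (V := V)) ∪ g '' {i | i < k + 2}) with hG'
    have hg : ∀ i, i < k + 2 → g i ∈ G' := fun i hi => Subgroup.subset_closure (Or.inr ⟨i, hi, rfl⟩)
    have hsub : S.sub.B ≤ ((G' ⊓ S.C).subgroupOf S.stab).map S.res := by
      refine F.closure.trans ((Subgroup.closure_le _).mpr ?_)
      rintro _ (⟨t, rfl⟩ | ⟨i, hi, rfl⟩)
      · have ht : (scal t : Aut V) ∈ S.C := S.mem_C.mpr ⟨H.scal_mem t, (H.scal_comm S.hl t).symm⟩
        exact ⟨⟨scal t, S.C_le_stab ht⟩, ⟨Subgroup.subset_closure (Or.inl ⟨t, rfl⟩), ht⟩,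
          LinearEquiv.ext fun u => Subtype.ext rfl⟩
      · obtain ⟨hcC, -, hcu⟩ := hc i hi
        have hgi : g i = c i := if_pos (hi : i < k)
        refine ⟨⟨c i, S.C_le_stab hcC⟩, ⟨?_, hcC⟩, ?_⟩
        · show c i ∈ G'
          rw [← hgi]
          exact hg i (by have : i < k := hi; omega)
        exact LinearEquiv.ext fun u => Subtype.ext (hcu u).symm
    intro x hx
    obtain ⟨j, z, -, hz, rfl⟩ := S.decomp hx
    have hy : S.y ∈ G' := by
      have := hg (k + 1) (by omega)
      simpa [g] using this
    have hl : S.l ∈ G' := by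
      have := hg k (by omega)
      simpa [g] using this
    refine mul_mem (pow_mem hy j) ?_
    obtain ⟨⟨w, hws⟩, ⟨hwG, hwC⟩, hw⟩ := hsub (S.mem_sub hz)
    obtain ⟨i, -, hi⟩ := S.eq_pow_of_fix (mul_mem (inv_mem hwC) hz) fun u hu => by
      have h := congrArg Subtype.val (LinearEquiv.congr_fun hw ⟨u, hu⟩)
      rw [LinearEquiv.mul_apply]
      show w⁻¹ (z u) = u
      have h' : w u = z u := h
      rw [← h']
      exact w.symm_apply_apply u
    rw [inv_mul_eq_iff_eq_mul] at hi
    rw [hi]
    exact mul_mem hwG (pow_mem hl i)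

/-- The basis for a one-dimensional fixed space. -/
theorem pre_flat (hS : S.Flat) : Nonempty (Pre S.sub 1 []) := by
  refine ⟨⟨fun _ => ⟨S.v, S.v_mem⟩, fun _ => 1, fun c h j hj => ?_, one_pos, fun i hi => absurd hi (by simp),
    fun i hi => absurd hi (by simp), fun b hb => ?_⟩⟩
  · obtain rfl : j = 0 := by omega
    rw [sum_range_one] at h
    exact (smul_eq_zero.mp h).resolve_right fun e => S.hv (congrArg Subtype.val e)
  · obtain ⟨z, hz, hzu⟩ := S.exists_lift hb
    obtain ⟨d, hd⟩ := hS z hz
    refine Subgroup.subset_closure (Or.inl ⟨d, LinearEquiv.ext fun u => Subtype.ext ?_⟩)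
    rw [hzu, hd _ u.2]
    rfl

end Split

theorem zmod3_sq_add_one : ∀ s : ZMod 3, s * s + 1 ≠ 0 := by decide

/-- The basis for a quaternion group. -/
theorem Heis.MinusOne.pre [Finite K] [Finite V] [Nontrivial V] {H : Heis K V} (Q : H.MinusOne) :
    Nonempty (Pre H 2 [[[0, 1], [2, 0]], [[1, 1], [1, 2]]]) := by
  have h3 : (3 : K) = 0 := by
    haveI : Fintype K := Fintype.ofFinite K
    have h0 := FiniteField.cast_card_eq_zero K
    rw [← Nat.card_eq_fintype_card, Q.card] at h0
    exact_mod_cast h0
  have h2 : ((2 : ℕ) : K) = -1 := by push_cast; linear_combination h3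
  refine ⟨⟨fun j => if j = 0 then Q.v else Q.a Q.v, fun i => if i = 0 then Q.a else Q.b,
    fun c h j hj => ?_, by norm_num, fun i _ => ?_, fun i hi b hb => ?_, ?_⟩⟩
  · rw [sum_range_succ, sum_range_one] at h
    simp only [if_true, one_ne_zero, if_false] at h
    have hc : c 1 = 0 := by
      by_contra hc
      have hav : Q.a Q.v = (-(c 0) / c 1) • Q.v := by
        refine smul_right_injective V hc ?_
        show c 1 • Q.a Q.v = c 1 • ((-(c 0) / c 1) • Q.v)
        rw [smul_smul, mul_div_cancel₀ _ hc, neg_smul]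
        exact eq_neg_of_add_eq_zero_right h
      set t := -(c 0) / c 1
      have ht := congrArg Q.a hav
      rw [Q.aa, H.lin _ Q.ha, hav, smul_smul] at ht
      have hsum : (t * t + 1) • Q.v = 0 := by rw [add_smul, one_smul, ← ht, neg_add_cancel]
      have ht2 : t * t + 1 = 0 := (smul_eq_zero.mp hsum).resolve_right Q.hv
      haveI : Fintype K := Fintype.ofFinite K
      haveI := Fact.mk Nat.prime_three
      have e := ZMod.ringEquivOfPrime K Nat.prime_three (by rw [← Nat.card_eq_fintype_card, Q.card])
      have h4 := congrArg e.symm ht2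
      rw [map_add, map_mul, map_one, map_zero] at h4
      generalize e.symm t = s at h4
      exact zmod3_sq_add_one s h4
    rw [hc, zero_smul, add_zero] at h
    interval_cases j
    · exact (smul_eq_zero.mp h).resolve_right Q.hv
    · exact hc
  · show (if i = 0 then Q.a else Q.b) ∈ H.B
    split_ifs
    · exact Q.ha
    · exact Q.hb
  · have hi' : i < 2 := hi
    rw [sum_range_succ, sum_range_one]
    interval_cases i <;> interval_cases b <;>
      simp [List.getD_eq_getElem?_getD, Q.aa, Q.bv, map_add, Q.ba, H.lin _ Q.ha] <;>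
      first
        | module
        | (rw [show ((2 : K)) = -1 by linear_combination h3]; module)
  · refine Q.gen.trans (Subgroup.closure_mono ?_)
    rintro x (hx | rfl | rfl)
    · exact Or.inl hx
    · exact Or.inr ⟨0, by simp, by simp⟩
    · exact Or.inr ⟨1, by simp, by simp⟩

end Cfsg.Agent.Lib.BaseSize.Pauli
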