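/-
The recursion: every group has a pinning pair.
-/
import Cfsg.Agent.Lib.BaseSize.Pauli.Pre
import Cfsg.Agent.Lib.BaseSize.Pauli.ModelPlusThree
import Cfsg.Agent.Lib.BaseSize.Pauli.ModelPlusFiveOne
import Cfsg.Agent.Lib.BaseSize.Pauli.ModelPlusFiveTwo
import Cfsg.Agent.Lib.BaseSize.Pauli.ModelMinusThree

set_option autoImplicit false
set_option linter.unusedSectionVars false

namespace Cfsg.Agent.Lib.BaseSize.Pauli

universe u v

variable {K : Type u} [Field K] {V : Type v} [AddCommGroup V] [Module K V]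

namespace Heis

variable (H : Heis K V)

/-- An involution splitting with only scalars on the fixed space, over three or five elements. -/
def PlusOne : Prop :=
  (Nat.card K = 3 ∨ Nat.card K = 5) ∧ ∃ S : Split H, S.r = 2 ∧ S.m = 1 ∧ S.Flat

/-- An involution splitting over a quaternion group. -/
def MinusTwo [Finite V] [Nontrivial V] : Prop :=
  ∃ S : Split H, S.r = 2 ∧ S.m = 1 ∧ Nonempty S.sub.MinusOne

/-- The possible outcomes. -/
def Outcome [Finite V] [Nontrivial V] (p : ℕ) : Prop :=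
  (∀ Γ : Subgroup (Aut V), H.Acts p Γ → ∃ u₁ u₂ : V, H.Good Γ u₁ u₂) ∨
    H.Scalars ∨ H.PlusOne ∨ Nonempty H.MinusOne ∨ H.MinusTwo

variable [Finite K] [Finite V] [Nontrivial V]

theorem eq_of_charP {p q : ℕ} [CharP K p] (hq : q.Prime) (hK : Nat.card K = q) : p = q := by
  haveI : Fintype K := Fintype.ofFinite K
  haveI := Fact.mk hq
  exact CharP.eq K inferInstance (charP_of_card_eq_prime (by rw [← Nat.card_eq_fintype_card, hK]))

theorem split_r_two (S : Split H) (hK : Nat.card K = 3 ∨ Nat.card K = 5) : S.r = 2 := by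
  have h : S.r ∣ Nat.card Kˣ := S.hζ ▸ orderOf_dvd_natCard S.ζ
  rw [Nat.card_units] at h
  rcases hK with hK | hK <;> rw [hK] at h
  · exact (Nat.prime_dvd_prime_iff_eq S.hr Nat.prime_two).mp h
  · exact (Nat.prime_dvd_prime_iff_eq S.hr Nat.prime_two).mp (S.hr.dvd_of_dvd_pow (m := 2) (n := 2) h)

theorem exists_nat {q : ℕ} (hq : q.Prime) (hK : Nat.card K = q) {x : K} (hx : x ≠ 0) :
    ∃ n : ℕ, n < q ∧ n ≠ 0 ∧ x = (n : K) := by
  haveI : Fintype K := Fintype.ofFinite K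
  haveI : Fact q.Prime := ⟨hq⟩
  have e := ZMod.ringEquivOfPrime K hq (by rw [← Nat.card_eq_fintype_card, hK])
  have hn : x = ((e.symm x).val : K) := by
    rw [← map_natCast e, ZMod.natCast_val, ZMod.cast_id', id, RingEquiv.apply_symm_apply]
  exact ⟨_, ZMod.val_lt _, fun h => hx (by rw [hn, h, Nat.cast_zero]), hn⟩

theorem natCast_card_zero {q : ℕ} (hK : Nat.card K = q) : (q : K) = 0 := by
  haveI : Fintype K := Fintype.ofFinite K
  rw [← hK, Nat.card_eq_fintype_card]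
  exact FiniteField.cast_card_eq_zero K

/-- A splitting with normalised square. -/
theorem exists_normal_split {x : Aut V} (hx : x ∈ H.B) (hx1 : x ≠ 1) {v : V} (hv : v ≠ 0)
    (hxv : x v = v) :
    ∃ S : Split H, (Nat.card K = 3 → (S.m : K) = 1) ∧
      (Nat.card K = 5 → (S.m : K) = 1 ∨ (S.m : K) = 2) := by
  obtain ⟨S⟩ := H.exists_split hx hx1 hv hxv
  by_cases hgood : (Nat.card K = 3 → (S.m : K) = 1) ∧ (Nat.card K = 5 → (S.m : K) = 1 ∨ (S.m : K) = 2)
  · exact ⟨S, hgood⟩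
  by_cases hK : Nat.card K = 3 ∨ Nat.card K = 5
  swap
  · exact ⟨S, fun h => absurd (Or.inl h) hK, fun h => absurd (Or.inr h) hK⟩
  have hr := H.split_r_two S hK
  have hyl : (S.y * S.l) ^ S.r = scal (-S.m) := by
    have hyy : S.y * S.y = scal S.m := by rw [← sq, ← hr, S.hym]
    have hll : S.l * S.l = 1 := by rw [← sq, ← hr, S.hlr]
    rw [hr, sq, mul_assoc, ← mul_assoc S.l S.y, S.hly, mul_assoc (scal S.ζ), mul_assoc S.y S.l,
      hll, mul_one, H.mul_scal S.hy, hyy, ← map_mul]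
    refine congrArg _ (Units.ext ?_)
    rw [Units.val_mul, S.zeta_two hr, Units.val_neg, neg_one_mul]
  have hly' : S.l * (S.y * S.l) = scal S.ζ * (S.y * S.l * S.l) := by
    rw [← mul_assoc, S.hly]
    simp only [mul_assoc]
  obtain ⟨hm3, hm5⟩ : (Nat.card K = 3 → (S.m : K) = 1 ∨ (S.m : K) = -1) ∧
      (Nat.card K = 5 → (S.m : K) = 1 ∨ (S.m : K) = 2 ∨ (S.m : K) = -2 ∨ (S.m : K) = -1) := by
    constructor <;> intro hc
    · have h3 := natCast_card_zero (K := K) hc
      obtain ⟨n, hn, hn0, he⟩ := exists_nat (K := K) (by norm_num : Nat.Prime 3) hc S.m.ne_zero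
      push_cast at h3
      interval_cases n <;> push_cast at he
      · exact absurd rfl hn0
      · exact Or.inl he
      · exact Or.inr (by linear_combination he + h3)
    · have h5 := natCast_card_zero (K := K) hc
      obtain ⟨n, hn, hn0, he⟩ := exists_nat (K := K) (by norm_num : Nat.Prime 5) hc S.m.ne_zero
      push_cast at h5
      interval_cases n <;> push_cast at he
      · exact absurd rfl hn0
      · exact Or.inl he
      · exact Or.inr (Or.inl he)
      · exact Or.inr (Or.inr (Or.inl (by linear_combination he + h5)))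
      · exact Or.inr (Or.inr (Or.inr (by linear_combination he + h5)))
  refine ⟨⟨S.l, S.y * S.l, S.r, S.ζ, -S.m, S.v, S.hr, S.hl, mul_mem S.hy S.hl, S.hlr, hyl, S.hζ, hly',
    S.hv, S.hlv⟩, fun hc => ?_, fun hc => ?_⟩
  · show ((-S.m : Kˣ) : K) = 1
    rw [Units.val_neg]
    rcases hm3 hc with h | h
    · exact absurd ⟨fun _ => h, fun h5 => absurd (hc.symm.trans h5) (by norm_num)⟩ hgood
    · rw [h, neg_neg]
  · show ((-S.m : Kˣ) : K) = 1 ∨ ((-S.m : Kˣ) : K) = 2
    rw [Units.val_neg]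
    rcases hm5 hc with h | h | h | h
    · exact absurd ⟨fun h3 => absurd (hc.symm.trans h3) (by norm_num), fun _ => Or.inl h⟩ hgood
    · exact absurd ⟨fun h3 => absurd (hc.symm.trans h3) (by norm_num), fun _ => Or.inr h⟩ hgood
    · exact Or.inr (by rw [h, neg_neg])
    · exact Or.inl (by rw [h, neg_neg])

theorem scalars_of_flat_sub (S : Split H) (h : S.sub.Scalars) : S.Flat := S.flat_of_sub h

variable {p : ℕ} [CharP K p]

/-- A split group over a group with outcome has an outcome. -/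
theorem outcome_step (h2 : (2 : K) ≠ 0) (S : Split H) (hn3 : Nat.card K = 3 → (S.m : K) = 1)
    (hn5 : Nat.card K = 5 → (S.m : K) = 1 ∨ (S.m : K) = 2) [Nontrivial S.W] (h : S.sub.Outcome p) :
    H.Outcome p := by
  rcases h with hgood | hsc | ⟨hK, T, hTr, hTm, hTf⟩ | ⟨⟨Q⟩⟩ | ⟨T, hTr, hTm, ⟨Q⟩⟩
  · left
    intro Γ hΓ
    obtain ⟨a, b, hab⟩ := hgood _ (S.acts_sub hΓ)
    exact ⟨_, _, S.good_step hΓ hab⟩
  · have hS := S.flat_of_sub hsc
    by_cases hr : S.r = 2
    · by_cases hc : ∃ c : Kˣ, (c : K) ^ 2 * S.m ≠ 1 ∧ (c : K) ^ 2 * S.m ≠ -1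
      · obtain ⟨c, hc1, hc2⟩ := hc
        obtain ⟨u₁, u₂, h⟩ := S.good_flat_two (p := p) hS hr c hc1 hc2
        exact Or.inl fun Γ hΓ => ⟨u₁, u₂, h Γ hΓ⟩
      · push Not at hc
        exact Or.inr (Or.inr (Or.inl (S.flat_normal hS hr h2 fun c =>
          (em ((c : K) ^ 2 * S.m = 1)).imp id (hc c))))
    · obtain ⟨u₁, u₂, h⟩ := S.good_flat_odd (p := p) hS hr h2
      exact Or.inl fun Γ hΓ => ⟨u₁, u₂, h Γ hΓ⟩
  · have hr := H.split_r_two S hK
    obtain ⟨F₁⟩ := T.pre_flat hTf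
    have hT1 : ((1 : ℕ) : K) = (T.m : K) := by rw [hTm]; simp
    left
    intro Γ hΓ
    rcases hK with hK | hK
    · have hp3 : p = 3 := eq_of_charP (K := K) Nat.prime_three hK
      obtain ⟨F₂⟩ := T.double hTr (p := 3) (by norm_num) (natCast_card_zero hK) hT1 F₁
      obtain ⟨F₃⟩ := S.double hr (p := 3) (m := 1) (by norm_num) (natCast_card_zero hK)
        (by rw [hn3 hK, Nat.cast_one]) F₂
      exact Pre.good (P := Cert.plusThreeMdl) F₃ Cert.plusThree_valid Cert.plusThree_tree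
        Nat.prime_three hK (by rw [hp3] at hΓ; exact hΓ)
    · have hp5 : p = 5 := eq_of_charP (K := K) Nat.prime_five hK
      obtain ⟨F₂⟩ := T.double hTr (p := 5) (by norm_num) (natCast_card_zero hK) hT1 F₁
      rcases hn5 hK with hm | hm
      · obtain ⟨F₃⟩ := S.double hr (p := 5) (m := 1) (by norm_num) (natCast_card_zero hK)
          (by rw [hm, Nat.cast_one]) F₂
        exact Pre.good (P := Cert.plusFiveOneMdl) F₃ Cert.plusFiveOne_valid Cert.plusFiveOne_tree
          Nat.prime_five hK (by rw [hp5] at hΓ; exact hΓ)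
      · obtain ⟨F₃⟩ := S.double hr (p := 5) (m := 2) (by norm_num) (natCast_card_zero hK)
          (by rw [hm]; norm_num) F₂
        exact Pre.good (P := Cert.plusFiveTwoMdl) F₃ Cert.plusFiveTwo_valid Cert.plusFiveTwo_tree
          Nat.prime_five hK (by rw [hp5] at hΓ; exact hΓ)
  · have hr := H.split_r_two S (Or.inl Q.card)
    exact Or.inr (Or.inr (Or.inr (Or.inr ⟨S, hr, Units.ext (hn3 Q.card), ⟨Q⟩⟩)))
  · have hr := H.split_r_two S (Or.inl Q.card)
    left
    intro Γ hΓ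
    haveI : Nontrivial T.W := ⟨⟨T.v, T.v_mem⟩, 0, fun h => T.hv (congrArg Subtype.val h)⟩
    have hp3 : p = 3 := eq_of_charP (K := K) Nat.prime_three Q.card
    obtain ⟨F₁⟩ := Q.pre
    obtain ⟨F₂⟩ := T.double hTr (p := 3) (m := 1) (by norm_num) (natCast_card_zero Q.card)
      (by rw [hTm]; simp) F₁
    obtain ⟨F₃⟩ := S.double hr (p := 3) (m := 1) (by norm_num) (natCast_card_zero Q.card)
      (by rw [hn3 Q.card, Nat.cast_one]) F₂
    exact Pre.good (P := Cert.minusThreeMdl) F₃ Cert.minusThree_valid Cert.minusThree_tree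
      Nat.prime_three Q.card (by rw [hp3] at hΓ; exact hΓ)

end Heis

/-- Every group has an outcome. -/
theorem outcome_of_card [Finite K] (h2 : (2 : K) ≠ 0) {p : ℕ} [CharP K p] :
    ∀ (n : ℕ) (V : Type v) [AddCommGroup V] [Module K V] [Finite V] [Nontrivial V] (H : Heis K V),
      Nat.card V ≤ n → H.Outcome p := by
  intro n
  induction n with
  | zero =>
    intro V _ _ _ _ H h
    exact absurd h (not_le.mpr (Nat.card_pos))
  | succ n ih =>
    intro V _ _ _ _ H h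
    by_cases hfix : ∃ x ∈ H.B, ∃ v : V, v ≠ 0 ∧ x v = v ∧ x ≠ 1
    · obtain ⟨x, hx, v, hv, hxv, hx1⟩ := hfix
      obtain ⟨S, hn3, hn5⟩ := H.exists_normal_split hx hx1 hv hxv
      haveI : Nontrivial S.W := ⟨⟨S.v, S.v_mem⟩, 0, fun h => S.hv (congrArg Subtype.val h)⟩
      have hlt := S.card_W_lt
      exact H.outcome_step h2 S hn3 hn5 (ih S.W S.sub (by omega))
    · push Not at hfix
      have hf : H.Free := fun x hx v hv hxv => hfix x hx v hv hxv
      by_cases hs : H.Scalars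
      · exact Or.inr (Or.inl hs)
      rcases H.free_cases hf hs h2 (p := p) with h | h
      · exact Or.inl h
      · exact Or.inr (Or.inr (Or.inr (Or.inl h)))

namespace Heis

variable (H : Heis K V) [Finite K] [Finite V] [Nontrivial V]

theorem MinusOne.semi {H : Heis K V} (Q : H.MinusOne) {p : ℕ} {Γ : Subgroup (Aut V)}
    (hΓ : H.Acts p Γ) : H.Semi Γ Q.v (Q.a Q.v) := by
  refine ⟨⟨Q.hv, fun x hx hxv => Q.free x hx _ Q.hv hxv⟩, fun γ hγ h1 h2 x hx => ?_⟩
  have hσ : ∀ c : Kˣ, γ * scal c = scal c * γ := scal_comm_of_prime Nat.prime_three Q.card γ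
  have hfree : ∀ g ∈ H.B, γ (g Q.v) = g Q.v → γ * g = g * γ := by
    intro g hg hgv
    have h1' : g⁻¹ * (γ * g * γ⁻¹) = 1 :=
      Q.free _ (mul_mem (inv_mem hg) (hΓ.norm γ hγ g hg)) Q.v Q.hv (by
        rw [LinearEquiv.mul_apply, conj_apply_fix h1, hgv]
        exact g.symm_apply_apply Q.v)
    rw [inv_mul_eq_one, eq_mul_inv_iff_mul_eq] at h1'
    exact h1'.symm
  have ha := hfree Q.a Q.ha h2
  have hb := hfree Q.b Q.hb (by rw [Q.bv, map_add, h1, h2])
  have hle : Subgroup.closure (Set.range (scal (K := K) (V := V)) ∪ {Q.a, Q.b}) ≤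
      Subgroup.centralizer {γ} := by
    rw [Subgroup.closure_le]
    rintro y (⟨c, rfl⟩ | rfl | rfl) <;>
      rw [SetLike.mem_coe, Subgroup.mem_centralizer_singleton_iff]
    · exact (hσ c).symm
    · exact ha.symm
    · exact hb.symm
  exact (Subgroup.mem_centralizer_singleton_iff.mp (hle (Q.gen hx))).symm

/-- Every group has a pinning pair. -/
theorem exists_pins {p : ℕ} [CharP K p] (h2 : (2 : K) ≠ 0) {Γ : Subgroup (Aut V)} (hΓ : H.Acts p Γ) :
    ∃ u₁ u₂ : V, u₁ ≠ 0 ∧ H.Pins Γ u₁ u₂ := by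
  rcases outcome_of_card (K := K) h2 (p := p) (Nat.card V) V H le_rfl with
    hgood | hsc | ⟨hK, S, hr, hm, hS⟩ | ⟨⟨Q⟩⟩ | ⟨S, hr, hm, ⟨Q⟩⟩
  · obtain ⟨u₁, u₂, h⟩ := hgood Γ hΓ
    exact ⟨u₁, u₂, h.1.ne_zero, h.1.2⟩
  · obtain ⟨θ, hθ⟩ := IsCyclic.exists_generator (α := Kˣ)
    obtain ⟨v, hv⟩ := exists_ne (0 : V)
    refine ⟨v, (θ : K) • v, hv, fun γ hγ h1 h2' x hx => ?_⟩
    obtain ⟨c, rfl⟩ := hsc x hx
    exact H.scal_comm_of_gen hΓ hγ hθ hv h1 h2' c
  · refine ⟨S.v, S.y S.v, S.hv, ?_⟩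
    rcases hK with hK | hK
    · exact S.pins_flat_two hS hr Nat.prime_three hK hΓ
    · exact S.pins_flat_two hS hr Nat.prime_five hK hΓ
  · exact ⟨Q.v, Q.a Q.v, Q.hv, (Q.semi hΓ).2⟩
  · haveI : Nontrivial S.W := ⟨⟨S.v, S.v_mem⟩, 0, fun h => S.hv (congrArg Subtype.val h)⟩
    have hs := Q.semi (S.acts_sub hΓ)
    have hb : Q.a Q.v ≠ 0 := fun e => Q.hv (Q.a.injective (e.trans (map_zero Q.a).symm))
    exact ⟨_, _, (S.reg_of_semi hs).2.1, S.pins_step hΓ hs hb (Or.inl hr)⟩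

end Heis

end Cfsg.Agent.Lib.BaseSize.Pauli
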