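/-
A regular pair for a primitive soluble linear group of order prime to the characteristic.
-/
import Cfsg.Agent.Lib.BaseSize.PrimitiveCore
import Cfsg.Agent.Lib.BaseSize.Pauli.Outcome

set_option autoImplicit false
set_option linter.unusedSectionVars false
set_option linter.style.haveILetI false

open scoped commutatorElement

namespace Cfsg.Agent.Lib.BaseSize

universe u

variable {p : ℕ} [Fact p.Prime] {V : Type u} [AddCommGroup V] [Module (ZMod p) V]

/-- The additive automorphism of an element. -/
def autEmb (G : Subgroup (V ≃ₗ[ZMod p] V)) : G →* Pauli.Aut V where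
  toFun g := (g : V ≃ₗ[ZMod p] V).toAddEquiv.toIntLinearEquiv
  map_one' := LinearEquiv.ext fun _ => rfl
  map_mul' _ _ := LinearEquiv.ext fun _ => rfl

@[simp] theorem autEmb_apply (G : Subgroup (V ≃ₗ[ZMod p] V)) (g : G) (v : V) :
    autEmb G g v = g • v := rfl

/-- A primitive soluble group of order prime to the odd characteristic has a regular pair. -/
theorem Ctx.exists_pair_coprime [Finite V] [Nontrivial V] {G : Subgroup (V ≃ₗ[ZMod p] V)} (τ : Ctx G)
    (hp2 : p ≠ 2) (hG : ¬ p ∣ Nat.card G) :
    ∃ u₁ u₂ : V, u₁ ≠ 0 ∧ ∀ g : G, g • u₁ = u₁ → g • u₂ = u₂ → g = 1 := by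
  classical
  haveI : Finite (V ≃ₗ[ZMod p] V) :=
    Finite.of_injective (fun e => (e : V → V)) DFunLike.coe_injective
  haveI := τ.M_normal
  haveI := τ.B_normal
  set R := Spectrum.PrimitiveSoluble.span (endo G) τ.M with hR
  have hMc : ∀ a ∈ τ.M, ∀ b ∈ τ.M, a * b = b * a := fun a ha b hb => τ.cenM a (τ.M_le ha) b hb
  letI : CommRing R := { (inferInstance : Ring R) with
    mul_comm := fun a b =>
      Subtype.ext (Spectrum.PrimitiveSoluble.span_comm (endo G) hMc a.2 b.2).eq }
  haveI : Finite (Module.End (ZMod p) V) :=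
    Finite.of_injective (fun f => (f : V → V)) DFunLike.coe_injective
  obtain ⟨v₀, hv₀⟩ := exists_ne (0 : V)
  haveI : Nontrivial R := ⟨0, 1, fun h => hv₀ (by
    have := congrArg (fun r : R => (r : Module.End (ZMod p) V) v₀) h
    simpa using this.symm)⟩
  haveI : NoZeroDivisors R := ⟨fun {a b} hab => by
    by_contra hne
    obtain ⟨ha, hb⟩ := not_or.1 hne
    obtain ⟨v, hv⟩ : ∃ v, (b : Module.End (ZMod p) V) v ≠ 0 := by
      by_contra hall
      push Not at hall
      exact hb (Subtype.ext (LinearMap.ext hall))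
    exact ha (Subtype.ext (τ.inj a a.2 _ hv (LinearMap.congr_fun (congrArg Subtype.val hab) v)))⟩
  haveI : IsDomain R := NoZeroDivisors.to_isDomain R
  haveI : Fintype R := Fintype.ofFinite R
  letI : Field R := Fintype.fieldOfDomain R
  haveI hchar : CharP R p := (CharP.charP_iff_prime_eq_zero (Fact.out : p.Prime)).mpr (by
    refine Subtype.ext (LinearMap.ext fun v => ?_)
    show ((p : R) : Module.End (ZMod p) V) v = 0
    rw [Subring.coe_natCast, Module.End.natCast_apply, ← Nat.cast_smul_eq_nsmul (ZMod p),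
      ZMod.natCast_self, zero_smul])
  have h2 : (2 : R) ≠ 0 := by
    intro h
    have h2' : ((2 : ℕ) : R) = 0 := by exact_mod_cast h
    rw [CharP.cast_eq_zero_iff R p] at h2'
    exact hp2 ((Nat.prime_dvd_prime_iff_eq (Fact.out : p.Prime) Nat.prime_two).mp h2')
  -- elements of `B` are linear over the field
  have hlinB : ∀ b ∈ τ.B, ∀ r ∈ R, ∀ v : V, b • r v = r (b • v) := by
    intro b hb r hr
    induction hr using Subring.closure_induction with
    | mem x hx =>
      obtain ⟨m, hm, rfl⟩ := hx
      intro v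
      rw [endo_apply, endo_apply, ← mul_smul, ← mul_smul, τ.cenM b hb m hm]
    | zero => intro v; simp
    | one => intro v; rfl
    | add x y _ _ hx hy => intro v; simp [smul_add, hx, hy]
    | neg x _ hx => intro v; simp [smul_neg, hx]
    | mul x y _ _ hx hy => intro v; simp [hx, hy]
  have hscal : ∀ m ∈ τ.M, ∃ c : Rˣ, autEmb G m = Pauli.scal c := by
    intro m hm
    have hmem : endo G m ∈ R := Subring.subset_closure ⟨m, hm, rfl⟩
    have hne : (⟨endo G m, hmem⟩ : R) ≠ 0 := by
      intro h
      have h' := LinearMap.congr_fun (congrArg Subtype.val h) v₀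
      exact hv₀ ((smul_eq_zero_iff_eq m).mp (by simpa using h'))
    exact ⟨Units.mk0 _ hne, LinearEquiv.ext fun v => rfl⟩
  have hcs : ∀ b ∈ τ.B, ∀ c : Rˣ, autEmb G b * Pauli.scal c = Pauli.scal c * autEmb G b :=
    fun b hb c => LinearEquiv.ext fun v => hlinB b hb _ (c : R).2 v
  -- the operator group
  let B' : Subgroup (Pauli.Aut V) :=
    { carrier := {x | ∃ b ∈ τ.B, ∃ c : Rˣ, x = autEmb G b * Pauli.scal c}
      one_mem' := ⟨1, one_mem _, 1, by rw [map_one, map_one, one_mul]⟩
      mul_mem' := by
        rintro _ _ ⟨b, hb, c, rfl⟩ ⟨b', hb', c', rfl⟩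
        refine ⟨b * b', mul_mem hb hb', c * c', ?_⟩
        calc autEmb G b * Pauli.scal c * (autEmb G b' * Pauli.scal c') =
            autEmb G b * (Pauli.scal c * autEmb G b') * Pauli.scal c' := by simp only [mul_assoc]
          _ = autEmb G b * (autEmb G b' * Pauli.scal c) * Pauli.scal c' := by rw [hcs b' hb']
          _ = _ := by rw [map_mul, map_mul]; simp only [mul_assoc]
      inv_mem' := by
        rintro _ ⟨b, hb, c, rfl⟩
        refine ⟨b⁻¹, inv_mem hb, c⁻¹, ?_⟩
        rw [mul_inv_rev, ← map_inv, ← map_inv, ← hcs b⁻¹ (inv_mem hb)] }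
  let H : Pauli.Heis R V :=
    { B := B'
      scal_mem := fun c => ⟨1, one_mem _, c, by rw [map_one, one_mul]⟩
      lin := by
        rintro _ ⟨b, hb, c, rfl⟩ r v
        rw [LinearEquiv.mul_apply, LinearEquiv.mul_apply, Pauli.scal_apply, Pauli.scal_apply,
          smul_smul, mul_comm, ← smul_smul]
        exact hlinB b hb _ r.2 _
      comm := by
        rintro _ ⟨b, hb, c, rfl⟩ _ ⟨b', hb', c', rfl⟩
        obtain ⟨e, he⟩ := hscal _ (τ.comm b hb b' hb')
        refine ⟨e, ?_⟩
        have h1 : autEmb G b * autEmb G b' = Pauli.scal e * (autEmb G b' * autEmb G b) := by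
          rw [← he, ← map_mul, ← map_mul, ← map_mul, commutatorElement_def]
          congr 1
          group
        calc autEmb G b * Pauli.scal c * (autEmb G b' * Pauli.scal c')
            = autEmb G b * (Pauli.scal c * autEmb G b') * Pauli.scal c' := by simp only [mul_assoc]
          _ = (autEmb G b * autEmb G b') * (Pauli.scal c * Pauli.scal c') := by
              rw [← hcs b' hb']; simp only [mul_assoc]
          _ = Pauli.scal e * (autEmb G b' * autEmb G b) * (Pauli.scal c' * Pauli.scal c) := by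
              rw [h1, ((Commute.all c c').map (Pauli.scal (K := R) (V := V))).eq]
          _ = Pauli.scal e * (autEmb G b' * (autEmb G b * Pauli.scal c') * Pauli.scal c) := by
              simp only [mul_assoc]
          _ = Pauli.scal e * (autEmb G b' * (Pauli.scal c' * autEmb G b) * Pauli.scal c) := by
              rw [hcs b hb c']
          _ = _ := by simp only [mul_assoc]
      centre := by
        rintro _ ⟨b, hb, c, rfl⟩ hcomm
        have hbM : b ∈ τ.M := by
          refine τ.centre b hb fun y hy => ?_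
          have h := hcomm (autEmb G y) ⟨y, hy, 1, by rw [map_one, mul_one]⟩
          rw [mul_assoc, ← hcs y hy c, ← mul_assoc, ← mul_assoc] at h
          have h' := mul_right_cancel h
          rw [← map_mul, ← map_mul] at h'
          refine Subtype.ext (LinearEquiv.ext fun v => ?_)
          exact LinearEquiv.congr_fun h' v
        obtain ⟨e, he⟩ := hscal b hbM
        exact ⟨e * c, by rw [he, map_mul]⟩
      N := τ.N
      sqf := τ.sqf
      powN := by
        rintro _ ⟨b, hb, c, rfl⟩
        obtain ⟨e, he⟩ := hscal _ (τ.powN b hb)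
        refine ⟨e * c ^ τ.N, ?_⟩
        rw [(show Commute (autEmb G b) (Pauli.scal c) from hcs b hb c).mul_pow, ← map_pow, he,
          ← map_pow, ← map_mul] }
  have hconjscal : ∀ (g : G) (c : Rˣ), ∃ c' : Rˣ, autEmb G g * Pauli.scal c * (autEmb G g)⁻¹ =
      Pauli.scal c' := by
    intro g c
    have hmem := Spectrum.PrimitiveSoluble.conj_mem_span (endo G) τ.M_normal g (c : R).2
    have hne : (⟨_, hmem⟩ : R) ≠ 0 := by
      intro h
      have h' := LinearMap.congr_fun (congrArg Subtype.val h) (g • v₀)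
      have h'' : g • ((c : R) • v₀) = 0 := by
        simp only [Module.End.mul_apply, endo_apply, inv_smul_smul] at h'
        exact h'
      exact smul_ne_zero c.ne_zero hv₀ ((smul_eq_zero_iff_eq g).mp h'')
    exact ⟨Units.mk0 _ hne, LinearEquiv.ext fun v => rfl⟩
  have hΓ : H.Acts p (autEmb G).range := by
    refine ⟨fun h => hG (h.trans (Subgroup.card_range_dvd (autEmb G))), ?_⟩
    rintro _ ⟨g, rfl⟩ _ ⟨b, hb, c, rfl⟩
    obtain ⟨c', hc'⟩ := hconjscal g c
    refine ⟨g * b * g⁻¹, τ.B_normal.conj_mem b hb g, c', ?_⟩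
    rw [← hc', map_mul, map_mul, map_inv]
    group
  obtain ⟨u₁, u₂, hu1, hpins⟩ := H.exists_pins (p := p) h2 hΓ
  refine ⟨u₁, u₂, hu1, fun g h1 h2' => ?_⟩
  have hcomm := hpins (autEmb G g) ⟨g, rfl⟩ h1 h2'
  have hcB : ∀ y ∈ τ.B, g * y = y * g := by
    intro y hy
    have h := hcomm (autEmb G y) ⟨y, hy, 1, by rw [map_one, mul_one]⟩
    exact Subtype.ext (LinearEquiv.ext fun v => LinearEquiv.congr_fun h v)
  have hgM : g ∈ τ.M := τ.centB g (fun m hm => hcB m (τ.M_le hm)) hcB
  have hmem : endo G g - 1 ∈ R := sub_mem (Subring.subset_closure ⟨g, hgM, rfl⟩) (one_mem _)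
  have h0 := τ.inj _ hmem u₁ hu1 (by simp [h1])
  refine endo_injective G ?_
  rw [map_one]
  exact sub_eq_zero.mp h0

end Cfsg.Agent.Lib.BaseSize
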